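import Mathlib

set_option autoImplicit false
set_option linter.unusedSectionVars false
set_option linter.unusedVariables false
set_option linter.unusedSimpArgs false
set_option linter.style.haveILetI false
set_option maxHeartbeats 400000

/-!
# A regular sequence is algebraically independent over a subring meeting its ideal trivially
-/

universe u

namespace Groth.Agent.Lib.Helper6.PolyChar

open scoped Polynomial Pointwise

section Step

variable {B A : Type*} [CommRing B] [CommRing A]

/-- one variable: a polynomial relation in a regular element with coefficients that inject modulo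
the element is trivial -/
theorem eval₂_eq_zero_imp (f : B →+* A) (z0 : A) (hreg : IsSMulRegular A z0)
    (hinj : ∀ q : B, f q ∈ Ideal.span {z0} → q = 0) :
    ∀ p : B[X], Polynomial.eval₂ f z0 p = 0 → p = 0 := by
  have key : ∀ (d : ℕ) (p : B[X]), p.natDegree = d → Polynomial.eval₂ f z0 p = 0 → p = 0 := by
    intro d
    induction d using Nat.strong_induction_on with
    | _ d ih =>
      intro p hd hp
      have hdecomp := Polynomial.divX_mul_X_add p
      have h1 : Polynomial.eval₂ f z0 p.divX * z0 + f (p.coeff 0) = 0 := by
        have := congrArg (Polynomial.eval₂ f z0) hdecomp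
        rw [Polynomial.eval₂_add, Polynomial.eval₂_mul, Polynomial.eval₂_X, Polynomial.eval₂_C,
          hp] at this
        exact this
      have h2 : f (p.coeff 0) ∈ Ideal.span {z0} := by
        rw [Ideal.mem_span_singleton']
        exact ⟨-(Polynomial.eval₂ f z0 p.divX), by linear_combination -h1⟩
      have h3 : p.coeff 0 = 0 := hinj _ h2
      have h4 : Polynomial.eval₂ f z0 p.divX = 0 := by
        apply hreg
        show z0 • Polynomial.eval₂ f z0 p.divX = z0 • 0
        rw [smul_zero, smul_eq_mul]
        rw [h3, map_zero, add_zero] at h1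
        rw [mul_comm]
        exact h1
      by_cases hd0 : p.natDegree = 0
      · rw [Polynomial.eq_C_of_natDegree_eq_zero hd0, h3, map_zero]
      · have h5 : p.divX.natDegree < d := by
          rw [Polynomial.natDegree_divX_eq_natDegree_tsub_one]
          omega
        have h6 : p.divX = 0 := ih _ h5 p.divX rfl h4
        rw [← hdecomp, h6, h3, zero_mul, map_zero, add_zero]
  intro p hp
  exact key _ p rfl hp

end Step

section Main

variable (k : Type u) [CommRing k]

/-- evaluation in terms of the first variable -/
theorem aeval_eq_eval₂_finSuccEquiv {A : Type u} [CommRing A] [Algebra k A] (n : ℕ)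
    (z : Fin (n + 1) → A) (P : MvPolynomial (Fin (n + 1)) k) :
    MvPolynomial.aeval z P =
      Polynomial.eval₂
        ((MvPolynomial.aeval (fun i : Fin n => z i.succ) : MvPolynomial (Fin n) k →ₐ[k] A) :
          MvPolynomial (Fin n) k →+* A) (z 0) (MvPolynomial.finSuccEquiv k n P) := by
  have h : ((MvPolynomial.aeval z : MvPolynomial (Fin (n + 1)) k →ₐ[k] A) :
        MvPolynomial (Fin (n + 1)) k →+* A) =
      (Polynomial.eval₂RingHom
        ((MvPolynomial.aeval (fun i : Fin n => z i.succ) : MvPolynomial (Fin n) k →ₐ[k] A) :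
          MvPolynomial (Fin n) k →+* A) (z 0)).comp
        ((MvPolynomial.finSuccEquiv k n : MvPolynomial (Fin (n + 1)) k ≃ₐ[k] _) :
          MvPolynomial (Fin (n + 1)) k →+* _) := by
    apply MvPolynomial.ringHom_ext
    · intro c
      simp [MvPolynomial.finSuccEquiv_apply]
    · intro i
      refine Fin.cases ?_ (fun j => ?_) i
      · simp [MvPolynomial.finSuccEquiv_X_zero]
      · simp [MvPolynomial.finSuccEquiv_X_succ]
  exact RingHom.congr_fun h P

/-- a weakly regular sequence whose ideal meets the base ring trivially is algebraically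
independent over the base ring -/
theorem aeval_eq_zero_imp : ∀ (n : ℕ) (A : Type u) [CommRing A] [Algebra k A] (z : Fin n → A),
    RingTheory.Sequence.IsWeaklyRegular A (List.ofFn z) →
    (∀ c : k, algebraMap k A c ∈ Ideal.span (Set.range z) → c = 0) →
    ∀ P : MvPolynomial (Fin n) k, MvPolynomial.aeval z P = 0 → P = 0 := by
  intro n
  induction n with
  | zero =>
    intro A _ _ z _ hc P hP
    rw [MvPolynomial.eq_C_of_isEmpty P] at hP ⊢
    rw [MvPolynomial.aeval_C] at hP
    have := hc (MvPolynomial.coeff 0 P) (by rw [hP]; exact Ideal.zero_mem _)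
    rw [this, map_zero]
  | succ n ih =>
    intro A _ _ z hreg hc P hP
    rw [List.ofFn_succ, RingTheory.Sequence.isWeaklyRegular_cons_iff] at hreg
    obtain ⟨hreg0, hreg'⟩ := hreg
    -- the quotient ring
    let J : Ideal A := Ideal.span {z 0}
    let z'' : Fin n → A ⧸ J := fun i => Ideal.Quotient.mk J (z i.succ)
    have hJ : (z 0 • (⊤ : Submodule A A)) = J := by
      ext x
      rw [Submodule.mem_smul_pointwise_iff_exists]
      show _ ↔ x ∈ Ideal.span {z 0}
      rw [Ideal.mem_span_singleton']
      constructor
      · rintro ⟨y, -, rfl⟩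
        exact ⟨y, by rw [smul_eq_mul, mul_comm]⟩
      · rintro ⟨y, rfl⟩
        exact ⟨y, Submodule.mem_top, by rw [smul_eq_mul, mul_comm]⟩
    have hreg'' : RingTheory.Sequence.IsWeaklyRegular (A ⧸ J) (List.ofFn z'') := by
      have h1 : List.ofFn z'' = (List.ofFn (fun i : Fin n => z i.succ)).map (algebraMap A (A ⧸ J)) := by
        rw [List.map_ofFn]
        rfl
      rw [h1, RingTheory.Sequence.isWeaklyRegular_map_algebraMap_iff]
      exact (LinearEquiv.isWeaklyRegular_congr (Submodule.quotEquivOfEq _ _ hJ) _).mp hreg'
    have hc'' : ∀ c : k, algebraMap k (A ⧸ J) c ∈ Ideal.span (Set.range z'') → c = 0 := by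
      intro c hcm
      apply hc c
      have h2 : Ideal.span (Set.range z'') =
          (Ideal.span (Set.range (fun i : Fin n => z i.succ))).map (Ideal.Quotient.mk J) := by
        rw [Ideal.map_span, ← Set.range_comp]
        rfl
      rw [h2] at hcm
      have h3 : algebraMap k (A ⧸ J) c = Ideal.Quotient.mk J (algebraMap k A c) := rfl
      rw [h3, Ideal.mem_quotient_iff_mem_sup] at hcm
      have h4 : Ideal.span (Set.range (fun i : Fin n => z i.succ)) ⊔ J ≤ Ideal.span (Set.range z) := by
        apply sup_le
        · apply Ideal.span_mono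
          rintro _ ⟨i, rfl⟩
          exact ⟨i.succ, rfl⟩
        · apply Ideal.span_mono
          rintro _ rfl
          exact ⟨0, rfl⟩
      exact h4 hcm
    have hinj : ∀ Q : MvPolynomial (Fin n) k,
        ((MvPolynomial.aeval (fun i : Fin n => z i.succ) : MvPolynomial (Fin n) k →ₐ[k] A) :
          MvPolynomial (Fin n) k →+* A) Q ∈ Ideal.span {z 0} → Q = 0 := by
      intro Q hQ
      apply ih (A ⧸ J) z'' hreg'' hc'' Q
      have h5 : MvPolynomial.aeval z'' Q =
          (Ideal.Quotient.mkₐ k J) (MvPolynomial.aeval (fun i : Fin n => z i.succ) Q) :=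
        (MvPolynomial.comp_aeval_apply (fun i : Fin n => z i.succ) (Ideal.Quotient.mkₐ k J) Q).symm
      rw [h5]
      exact Ideal.Quotient.eq_zero_iff_mem.mpr hQ
    rw [aeval_eq_eval₂_finSuccEquiv] at hP
    have h6 := eval₂_eq_zero_imp _ (z 0) hreg0 hinj _ hP
    exact (MvPolynomial.finSuccEquiv k n).injective (h6.trans (map_zero _).symm)

end Main

end Groth.Agent.Lib.Helper6.PolyChar
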