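import Mathlib
import Groth.Prelude.Def_GrLC
import Groth.Prelude.Def_Wider
import Groth.Agent.Lib.Helper9.GrLC.GrH2
import Groth.Agent.Lib.Helper9.GrLC.Ess
import Groth.Agent.Lib.Helper6.CMReg.CRf
import Groth.Agent.Lib.Helper6.CMReg.CRj
import Groth.Agent.Lib.Helper6.CMReg.CRk

set_option autoImplicit false
set_option linter.unusedSectionVars false
set_option linter.unusedVariables false
set_option linter.unusedSimpArgs false
set_option linter.style.haveILetI false
set_option maxHeartbeats 400000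

/-!
# The first Koszul homology: exactness from vanishing of local cohomology, and descent
-/

universe u

namespace Groth.Agent.Lib.Helper6.PolyChar

open CategoryTheory DirectSum Groth.Agent.Helper9.GrLCLib Groth.Agent.Helper8.LC
  Groth.Agent.Lib.Helper6.CMReg

variable {R : Type u} [CommRing R] [IsNoetherianRing R] {𝒜 : ℤ → AddSubgroup R} [GradedRing 𝒜]

section Chase

variable {a : HomogeneousIdeal 𝒜} {M : GrLC.GMod.{u} 𝒜} {ys : List R} (K : KPack a M ys)

/-- the general chase: vanishing for the boundaries -/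
theorem van_B_gen (ha : a.toIdeal = Ideal.span {y | y ∈ ys}) (k : ℤ) :
    ∀ (m j q : ℕ), ys.length < q + m →
      (∀ l : ℕ, 1 ≤ l → Van a M (q + l - 1) (k - ((j : ℤ) + (l : ℤ)))) →
      Van a (subGMod K.T (K.B j) (K.B_hom j)) q k := by
  intro m
  induction m with
  | zero =>
    intro j q hq _
    exact K.van_of_length_lt ha _ q (by omega) k
  | succ m ih =>
    intro j q hq hyp
    have hB : Van a (subGMod K.T (K.B (j + 1)) (K.B_hom (j + 1))) (q + 1) k := by
      apply ih (j + 1) (q + 1) (by omega)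
      intro l hl
      have h1 := hyp (l + 1) (by omega)
      have h2 : q + (l + 1) - 1 = q + 1 + l - 1 := by omega
      have h3 : k - ((j : ℤ) + ((l + 1 : ℕ) : ℤ)) = k - (((j + 1 : ℕ) : ℤ) + (l : ℤ)) := by
        push_cast
        ring
      rw [h2, h3] at h1
      exact h1
    have hZ : Van a (subGMod K.T (K.Z (j + 1)) (K.Z_hom (j + 1))) (q + 1) k :=
      van_sub_of_torsion a K.T (K.B (j + 1)) (K.Z (j + 1)) (K.B_hom (j + 1)) (K.Z_hom (j + 1))
        (K.B_le_Z (j + 1)) (K.smul_mem_B ha (j + 1)) (q + 1) (by omega) k hB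
    have hC : Van a (subGMod K.T (K.C (j + 1)) (K.C_hom (j + 1))) q k := by
      apply K.van (j + 1) q k
      have h1 := hyp 1 (le_refl 1)
      have h2 : q + 1 - 1 = q := by omega
      have h3 : k - ((j : ℤ) + ((1 : ℕ) : ℤ)) = k - ((j + 1 : ℕ) : ℤ) := by
        push_cast
        ring
      rw [h2, h3] at h1
      exact h1
    exact van_map a K.T K.T K.D K.D_gr (K.C (j + 1)) (K.C_hom (j + 1)) (K.Z_hom (j + 1))
      (K.B_hom j) q k hC hZ

/-- exactness of the Koszul package at the first spot in degrees at least two, when the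
regularity is at most zero -/
theorem mem_B_one_of_reg (ha : a.toIdeal = Ideal.span {y | y ∈ ys})
    (hreg : ∀ (q : ℕ) (k' : ℤ), 0 < k' + q → Van a M q k') (k : ℤ) (hk : 2 ≤ k)
    (x : K.T.carrier) (hxZ : x ∈ K.Z 1) (hxk : x ∈ K.T.gr k) : x ∈ K.B 1 := by
  have hC : Van a (subGMod K.T (K.C 1) (K.C_hom 1)) 0 k := by
    apply K.van 1 0 k
    apply hreg
    push_cast
    omega
  have h2 : Van a (subGMod K.T (K.Z 1) (K.Z_hom 1)) 0 k :=
    van_left_zero 𝒜 a _ _ (inclMap K.T (K.Z 1) (K.C 1) (K.Z_hom 1) (K.C_hom 1) (K.Z_le_C 1))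
      (isGrHom_inclMap K.T (K.Z 1) (K.C 1) (K.Z_hom 1) (K.C_hom 1) (K.Z_le_C 1))
      (inclMap_injective K.T (K.Z 1) (K.C 1) (K.Z_hom 1) (K.C_hom 1) (K.Z_le_C 1)) k hC
  have h1 : Van a (subGMod K.T (K.B 1) (K.B_hom 1)) 1 k := by
    apply van_B_gen K ha k (ys.length + 1) 1 1 (by omega)
    intro l hl
    apply hreg
    have h3 : ((1 + l - 1 : ℕ) : ℤ) = (l : ℤ) := by omega
    rw [h3]
    push_cast
    omega
  exact mem_of_van a K.T (K.B 1) (K.Z 1) (K.B_hom 1) (K.Z_hom 1) (K.B_le_Z 1)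
    (K.smul_mem_B ha 1) k h2 h1 x hxZ hxk

/-- elements of the span of the list act trivially on the homology -/
lemma smul_mem_B_of_span (j : ℕ) (x : K.T.carrier) (hx : x ∈ K.Z j) (r : R)
    (hr : r ∈ Ideal.span {y | y ∈ ys}) : r • x ∈ K.B j := by
  induction hr using Submodule.span_induction with
  | mem y hy =>
    obtain ⟨h, hh1, hh2⟩ := K.htpy y hy
    have h1 := hh2 x
    rw [LinearMap.mem_ker.mp hx.2, map_zero, add_zero] at h1
    rw [← h1]
    exact ⟨h x, hh1 j x hx.1, rfl⟩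
  | zero =>
    rw [zero_smul]
    exact Submodule.zero_mem _
  | add r s _ _ ihr ihs =>
    rw [add_smul]
    exact add_mem ihr ihs
  | smul c r _ ih =>
    rw [smul_eq_mul, mul_smul]
    exact Submodule.smul_mem _ c ih

/-- homogeneous elements of the bottom term come from homogeneous elements of the module -/
lemma exists_of_mem_C_zero (g : ℤ) (x : K.T.carrier) (hx : x ∈ K.C 0) (hxg : x ∈ K.T.gr g) :
    ∃ c ∈ M.gr g, K.φ c = x := by
  rw [← K.φ_range] at hx
  obtain ⟨c, rfl⟩ := hx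
  refine ⟨proj M.gr g c, proj_mem M.gr g c, ?_⟩
  rw [← proj_map_of_isGrHom M.gr K.T.gr K.φ_gr c g]
  exact proj_of_mem_same K.T.gr hxg

end Chase

section Descent

variable {a : HomogeneousIdeal 𝒜} {M : GrLC.GMod.{u} 𝒜} {ys : List R} (K : KPack a M ys)
  (y : R) (hy : y ∈ 𝒜 1)

/-- vanishing of the first homology of the cone, in concrete terms -/
def H1cone : Prop :=
  ∀ z : (coneGMod K.T).carrier, cfst K.T z ∈ K.C 1 → csnd K.T z ∈ K.C 0 →
    coneD K.T K.D y z = 0 →
    ∃ w : (coneGMod K.T).carrier, cfst K.T w ∈ K.C 2 ∧ csnd K.T w ∈ K.C 1 ∧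
      coneD K.T K.D y w = z

lemma h1cone_of_cons (h1 : ∀ z ∈ (K.cons y hy).Z 1, z ∈ (K.cons y hy).B 1) : H1cone K y := by
  intro z hz1 hz2 hz3
  have hz : (show (K.cons y hy).T.carrier from z) ∈ (K.cons y hy).Z 1 := ⟨⟨hz1, hz2⟩, hz3⟩
  obtain ⟨w, hw, hwz⟩ := h1 _ hz
  exact ⟨w, hw.1, hw.2, hwz⟩

/-- if the first homology of the cone vanishes then `y` is a nonzerodivisor on the zeroth
homology -/
theorem cons_H0_regular (h1 : H1cone K y)
    (z2 : K.T.carrier) (hz2 : z2 ∈ K.C 0) (h : y • z2 ∈ K.B 0) : z2 ∈ K.B 0 := by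
  obtain ⟨z1, hz1, hz1'⟩ := h
  obtain ⟨w, hw1, hw2, hwz⟩ := h1 (cmk K.T (-z1) z2) (by rw [cfst_cmk]; exact neg_mem hz1)
    (by rw [csnd_cmk]; exact hz2) (by
      apply cone_ext
      · rw [cfst_coneD, cfst_cmk, csnd_cmk, map_neg, hz1', map_zero]
        exact neg_add_cancel _
      · rw [csnd_coneD, csnd_cmk, K.D_zero z2 hz2, neg_zero, map_zero])
  have h3 : csnd K.T (coneD K.T K.D y w) = z2 := by
    rw [hwz, csnd_cmk]
  rw [csnd_coneD] at h3
  refine ⟨-csnd K.T w, neg_mem hw2, ?_⟩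
  rw [map_neg]
  exact h3

/-- if the first homology of the cone vanishes then the first homology is divisible by `y` -/
theorem cons_H1_divisible (h1 : H1cone K y)
    (x : K.T.carrier) (hx : x ∈ K.Z 1) : ∃ b ∈ K.B 1, ∃ x' ∈ K.Z 1, x = b + y • x' := by
  obtain ⟨w, hw1, hw2, hwz⟩ := h1 (cmk K.T x 0) (by rw [cfst_cmk]; exact hx.1)
    (by rw [csnd_cmk]; exact Submodule.zero_mem _) (by
      apply cone_ext
      · rw [cfst_coneD, cfst_cmk, csnd_cmk, LinearMap.mem_ker.mp hx.2, smul_zero, add_zero,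
          map_zero]
      · rw [csnd_coneD, csnd_cmk, map_zero, neg_zero, map_zero])
  have h3 : K.D (cfst K.T w) + y • csnd K.T w = x := by
    have := congrArg (cfst K.T) hwz
    rwa [cfst_coneD, cfst_cmk] at this
  have h4 : K.D (csnd K.T w) = 0 := by
    have := congrArg (csnd K.T) hwz
    rw [csnd_coneD, csnd_cmk, neg_eq_zero] at this
    exact this
  exact ⟨K.D (cfst K.T w), ⟨cfst K.T w, hw1, rfl⟩, csnd K.T w, ⟨hw2, LinearMap.mem_ker.mpr h4⟩,
    h3.symm⟩

end Descent

end Groth.Agent.Lib.Helper6.PolyChar
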