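import Mathlib
import Groth.Prelude.Def_GrLC
import Groth.Prelude.Def_Wider
import Groth.Agent.Lib.Helper6.PolyChar.PCb

set_option autoImplicit false
set_option linter.unusedSectionVars false
set_option linter.unusedVariables false
set_option linter.unusedSimpArgs false
set_option linter.style.haveILetI false
set_option maxHeartbeats 400000

/-!
# Linear forms generating the irrelevant ideal, on a module of regularity zero, form a regular
sequence
-/

universe u

namespace Groth.Agent.Lib.Helper6.PolyChar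

open CategoryTheory DirectSum Groth.Agent.Helper9.GrLCLib Groth.Agent.Helper8.LC
  Groth.Agent.Lib.Helper6.CMReg

variable {R : Type u} [CommRing R] [IsNoetherianRing R] {𝒜 : ℤ → AddSubgroup R} [GradedRing 𝒜]

section Defs

variable (M : GrLC.GMod.{u} 𝒜)

/-- the combinations of a list with coefficients in the degree zero part of the module -/
def spanM : List R → Set M.carrier
  | [] => {0}
  | y :: ys => {x | ∃ c ∈ M.gr 0, ∃ m ∈ spanM ys, x = y • c + m}

/-- linear independence of a list on the degree zero part of the module -/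
def LIM : List R → Prop
  | [] => True
  | y :: ys => (∀ c ∈ M.gr 0, ∀ m ∈ spanM M ys, y • c + m = 0 → c = 0) ∧ LIM ys

/-- each element is a nonzerodivisor modulo the later ones -/
def RegRevM : List R → Prop
  | [] => True
  | y :: ys =>
    (∀ r : M.carrier, y • r ∈ Ideal.span {y' | y' ∈ ys} • (⊤ : Submodule R M.carrier) →
      r ∈ Ideal.span {y' | y' ∈ ys} • (⊤ : Submodule R M.carrier)) ∧ RegRevM ys

end Defs

/-- the behaviour of a Koszul package in degrees at most one -/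
structure LowDeg {a : HomogeneousIdeal 𝒜} {M : GrLC.GMod.{u} 𝒜} {ys : List R}
    (K : KPack a M ys) : Prop where
  i1 : ∀ k : ℤ, k ≤ 0 → ∀ x ∈ K.C 1, x ∈ K.T.gr k → x = 0
  i2 : ∀ x ∈ K.C 1, x ∈ K.T.gr 1 → ∃ m ∈ spanM M ys, K.φ m = K.D x
  i3 : ∀ x ∈ K.C 1, x ∈ K.T.gr 1 → K.D x = 0 → x = 0

section Low

variable (a : HomogeneousIdeal 𝒜) (M : GrLC.GMod.{u} 𝒜)

lemma lowDeg_nil : LowDeg (KPack.nil a M) where
  i1 := by
    intro k _ x hx _
    exact (Submodule.mem_bot R).mp hx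
  i2 := by
    intro x hx _
    have hx0 : x = 0 := (Submodule.mem_bot R).mp hx
    refine ⟨0, rfl, ?_⟩
    rw [hx0, map_zero, map_zero]
  i3 := by
    intro x hx _ _
    exact (Submodule.mem_bot R).mp hx

variable {a M} {ys : List R} (K : KPack a M ys) (y : R) (hy : y ∈ 𝒜 1)

lemma cons_i1 (hpos : ∀ n : ℤ, n < 0 → ∀ c ∈ M.gr n, c = 0) (hK : LowDeg K) (k : ℤ) (hk : k ≤ 0)
    (z : (coneGMod K.T).carrier) (hz1 : cfst K.T z ∈ K.C 1) (hz2 : csnd K.T z ∈ K.C 0)
    (hg1 : cfst K.T z ∈ K.T.gr k) (hg2 : csnd K.T z ∈ K.T.gr (k - 1)) : z = 0 := by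
  have h1 : cfst K.T z = 0 := hK.i1 k hk _ hz1 hg1
  obtain ⟨c, hc, hcz⟩ := exists_of_mem_C_zero K (k - 1) _ hz2 hg2
  have hc' : c = 0 := hpos (k - 1) (by omega) c hc
  have h2 : csnd K.T z = 0 := by rw [← hcz, hc', map_zero]
  apply cone_ext
  · rw [h1, map_zero]
  · rw [h2, map_zero]

lemma cons_i2 (hK : LowDeg K)
    (z : (coneGMod K.T).carrier) (hz1 : cfst K.T z ∈ K.C 1) (hz2 : csnd K.T z ∈ K.C 0)
    (hg1 : cfst K.T z ∈ K.T.gr 1) (hg2 : csnd K.T z ∈ K.T.gr (1 - 1)) :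
    ∃ c ∈ M.gr 0, ∃ m ∈ spanM M ys, K.φ c = csnd K.T z ∧
      cinl K.T (K.φ (y • c + m)) = coneD K.T K.D y z := by
  obtain ⟨m, hm, hmz⟩ := hK.i2 _ hz1 hg1
  have h0 : (1 : ℤ) - 1 = 0 := by norm_num
  rw [h0] at hg2
  obtain ⟨c, hc, hcz⟩ := exists_of_mem_C_zero K 0 _ hz2 hg2
  refine ⟨c, hc, m, hm, hcz, ?_⟩
  apply cone_ext
  · rw [cfst_cinl, cfst_coneD, ← hmz, ← hcz, map_add, map_smul, add_comm]
  · rw [csnd_cinl, csnd_coneD, K.D_zero _ hz2, neg_zero]

lemma cons_i3 (hK : LowDeg K)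
    (hLI : ∀ c ∈ M.gr 0, ∀ m ∈ spanM M ys, y • c + m = 0 → c = 0)
    (z : (coneGMod K.T).carrier) (hz1 : cfst K.T z ∈ K.C 1) (hz2 : csnd K.T z ∈ K.C 0)
    (hg1 : cfst K.T z ∈ K.T.gr 1) (hg2 : csnd K.T z ∈ K.T.gr (1 - 1))
    (hD' : coneD K.T K.D y z = 0) : z = 0 := by
  obtain ⟨c, hc, m, hm, hcz, h⟩ := cons_i2 K y hK z hz1 hz2 hg1 hg2
  rw [hD'] at h
  have h1 : K.φ (y • c + m) = 0 := by
    have := congrArg (cfst K.T) h
    rwa [cfst_cinl, map_zero] at this
  have h2 : y • c + m = 0 := K.φ_inj (h1.trans (map_zero _).symm)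
  have hc0 : c = 0 := hLI c hc m hm h2
  have h3 : csnd K.T z = 0 := by rw [← hcz, hc0, map_zero]
  have h4 : K.D (cfst K.T z) = 0 := by
    have := congrArg (cfst K.T) hD'
    rwa [cfst_coneD, h3, smul_zero, add_zero, map_zero] at this
  have h5 : cfst K.T z = 0 := hK.i3 _ hz1 hg1 h4
  apply cone_ext
  · rw [h5, map_zero]
  · rw [h3, map_zero]

lemma lowDeg_cons (hpos : ∀ n : ℤ, n < 0 → ∀ c ∈ M.gr n, c = 0) (hK : LowDeg K)
    (hLI : ∀ c ∈ M.gr 0, ∀ m ∈ spanM M ys, y • c + m = 0 → c = 0) : LowDeg (K.cons y hy) where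
  i1 := by
    intro k hk x hx hxk
    exact cons_i1 K hpos hK k hk x hx.1 hx.2 hxk.1 hxk.2
  i2 := by
    intro x hx hxk
    obtain ⟨c, hc, m, hm, -, h⟩ := cons_i2 K y hK x hx.1 hx.2 hxk.1 hxk.2
    exact ⟨y • c + m, ⟨c, hc, m, hm, rfl⟩, h⟩
  i3 := by
    intro x hx hxk hD
    exact cons_i3 K y hK hLI x hx.1 hx.2 hxk.1 hxk.2 hD

end Low

section Canonical

/-- the canonical Koszul package of a list of linear forms -/
noncomputable def kp (a : HomogeneousIdeal 𝒜) (M : GrLC.GMod.{u} 𝒜) :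
    (ys : List R) → (∀ y ∈ ys, y ∈ 𝒜 1) → KPack a M ys
  | [], _ => KPack.nil a M
  | y :: ys, h => (kp a M ys (fun y' hy' => h y' (List.mem_cons_of_mem _ hy'))).cons y
      (h y List.mem_cons_self)

lemma kp_cons (a : HomogeneousIdeal 𝒜) (M : GrLC.GMod.{u} 𝒜) (y : R) (ys : List R)
    (h : ∀ y' ∈ y :: ys, y' ∈ 𝒜 1) :
    kp a M (y :: ys) h = (kp a M ys (fun y' hy' => h y' (List.mem_cons_of_mem _ hy'))).cons y
      (h y List.mem_cons_self) := rfl

lemma lowDeg_kp (a : HomogeneousIdeal 𝒜) (M : GrLC.GMod.{u} 𝒜)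
    (hpos : ∀ n : ℤ, n < 0 → ∀ c ∈ M.gr n, c = 0) :
    ∀ (ys : List R) (hys : ∀ y ∈ ys, y ∈ 𝒜 1), LIM M ys → LowDeg (kp a M ys hys)
  | [], _, _ => lowDeg_nil a M
  | y :: ys, h, hLI => by
    rw [kp_cons]
    exact lowDeg_cons _ y _ hpos (lowDeg_kp a M hpos ys _ hLI.2) hLI.1

end Canonical

section Exact

variable {a : HomogeneousIdeal 𝒜} {M : GrLC.GMod.{u} 𝒜} {ys : List R} (K : KPack a M ys)

omit [IsNoetherianRing R] in
/-- an element all of whose homogeneous components lie in a submodule lies in it -/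
lemma mem_of_forall_proj_mem' {N : Type u} [AddCommGroup N] [Module R N] (𝒩 : ℤ → AddSubgroup N)
    [DirectSum.Decomposition 𝒩] (P : Submodule R N) (x : N) (h : ∀ k, proj 𝒩 k x ∈ P) :
    x ∈ P := by
  classical
  rw [← DirectSum.sum_support_decompose 𝒩 x]
  apply Submodule.sum_mem
  intro k _
  exact h k

/-- the first homology of the Koszul package vanishes when the regularity is at most zero -/
theorem h1zero_of_reg (hL : LowDeg K) (ha : a.toIdeal = Ideal.span {y | y ∈ ys})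
    (hreg : ∀ (q : ℕ) (k' : ℤ), 0 < k' + q → Van a M q k') :
    ∀ x ∈ K.Z 1, x ∈ K.B 1 := by
  intro x hx
  apply mem_of_forall_proj_mem' K.T.gr
  intro k
  have hpk : proj K.T.gr k x ∈ K.Z 1 := K.Z_hom 1 k hx
  have hgk : proj K.T.gr k x ∈ K.T.gr k := proj_mem K.T.gr k x
  rcases le_or_gt k 0 with hk | hk
  · rw [hL.i1 k hk _ hpk.1 hgk]
    exact Submodule.zero_mem _
  · rcases eq_or_lt_of_le (show (1 : ℤ) ≤ k by omega) with hk1 | hk2
    · subst hk1
      rw [hL.i3 _ hpk.1 hgk (LinearMap.mem_ker.mp hpk.2)]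
      exact Submodule.zero_mem _
    · exact mem_B_one_of_reg K ha hreg k (by omega) _ hpk hgk

/-- descent of the vanishing of the first homology -/
theorem h1zero_descend (hL : LowDeg K) (y : R) (hy : y ∈ 𝒜 1) (h1 : H1cone K y) :
    ∀ x ∈ K.Z 1, x ∈ K.B 1 := by
  have key : ∀ k : ℤ, 1 ≤ k → ∀ x ∈ K.Z 1, x ∈ K.T.gr k → x ∈ K.B 1 := by
    intro k hk
    induction k, hk using Int.le_induction with
    | base =>
      intro x hx hxk
      rw [hL.i3 _ hx.1 hxk (LinearMap.mem_ker.mp hx.2)]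
      exact Submodule.zero_mem _
    | succ k hk ih =>
      intro x hx hxk
      obtain ⟨b, hb, x', hx', hxe⟩ := cons_H1_divisible K y h1 x hx
      have h3 : proj K.T.gr (k + 1) x = x := proj_of_mem_same K.T.gr hxk
      have h4 : k + 1 - 1 = k := by omega
      have h2 : x = proj K.T.gr (k + 1) b + y • proj K.T.gr k x' := by
        have h5 : proj K.T.gr (k + 1) x =
            proj K.T.gr (k + 1) b + y • proj K.T.gr k x' := by
          rw [hxe, map_add, proj_smul_of_mem' 𝒜 K.T.gr hy x' (k + 1), h4]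
        rw [← h5, h3]
      rw [h2]
      apply add_mem
      · exact K.B_hom 1 (k + 1) hb
      · apply Submodule.smul_mem
        exact ih _ (K.Z_hom 1 k hx') (proj_mem K.T.gr k x')
  intro x hx
  apply mem_of_forall_proj_mem' K.T.gr
  intro k
  have hpk : proj K.T.gr k x ∈ K.Z 1 := K.Z_hom 1 k hx
  have hgk : proj K.T.gr k x ∈ K.T.gr k := proj_mem K.T.gr k x
  rcases le_or_gt k 0 with hk | hk
  · rw [hL.i1 k hk _ hpk.1 hgk]
    exact Submodule.zero_mem _
  · exact key k (by omega) _ hpk hgk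

end Exact

section Regular

variable (a : HomogeneousIdeal 𝒜) (M : GrLC.GMod.{u} 𝒜)

/-- vanishing of the first Koszul homology makes the list a regular sequence (in reverse order) -/
theorem regRev_of_h1zero (hpos : ∀ n : ℤ, n < 0 → ∀ c ∈ M.gr n, c = 0) :
    ∀ (ys : List R) (hys : ∀ y ∈ ys, y ∈ 𝒜 1), LIM M ys →
      (∀ x ∈ (kp a M ys hys).Z 1, x ∈ (kp a M ys hys).B 1) → RegRevM M ys
  | [], _, _, _ => trivial
  | y :: ys, h, hLI, h1 => by
    have hy : y ∈ 𝒜 1 := h y List.mem_cons_self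
    have hys : ∀ y' ∈ ys, y' ∈ 𝒜 1 := fun y' hy' => h y' (List.mem_cons_of_mem _ hy')
    have hL : LowDeg (kp a M ys hys) := lowDeg_kp a M hpos ys hys hLI.2
    have h1c : H1cone (kp a M ys hys) y := h1cone_of_cons (kp a M ys hys) y hy h1
    refine ⟨?_, regRev_of_h1zero hpos ys hys hLI.2 (h1zero_descend _ hL y hy h1c)⟩
    intro r hr
    have hφr : (kp a M ys hys).φ r ∈ (kp a M ys hys).C 0 := by
      rw [← (kp a M ys hys).φ_range]; exact ⟨r, rfl⟩
    have h2 : y • (kp a M ys hys).φ r ∈ (kp a M ys hys).B 0 := by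
      rw [← map_smul]
      refine Submodule.smul_induction_on hr ?_ ?_
      · intro c hc n _
        rw [map_smul]
        apply smul_mem_B_of_span _ 0 _ _ c hc
        apply (kp a M ys hys).C_zero_le_Z
        rw [← (kp a M ys hys).φ_range]
        exact ⟨n, rfl⟩
      · intro u v hu hv
        rw [map_add]
        exact add_mem hu hv
    obtain ⟨x, hx, hxr⟩ := cons_H0_regular _ y h1c _ hφr h2
    obtain ⟨m, hm, hmx⟩ := (kp a M ys hys).D_one x hx
    have h5 : m = r := (kp a M ys hys).φ_inj (hmx.trans hxr)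
    rw [← h5]
    exact hm

end Regular

section ToMathlib

omit [IsNoetherianRing R] in
/-- conversion to a weakly regular sequence -/
theorem isWeaklyRegular_reverse_of_regRevM (M : GrLC.GMod.{u} 𝒜) :
    ∀ ys : List R, RegRevM M ys → RingTheory.Sequence.IsWeaklyRegular M.carrier ys.reverse
  | [], _ => by
    rw [List.reverse_nil]
    exact RingTheory.Sequence.IsWeaklyRegular.nil R M.carrier
  | y :: ys, h => by
    rw [List.reverse_cons, RingTheory.Sequence.isWeaklyRegular_append_iff,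
      RingTheory.Sequence.isWeaklyRegular_singleton_iff,
      isSMulRegular_quotient_iff_mem_of_smul_mem]
    refine ⟨isWeaklyRegular_reverse_of_regRevM M ys h.2, ?_⟩
    have h1 : Ideal.ofList ys.reverse = Ideal.span {y' | y' ∈ ys} := by
      apply congrArg Ideal.span
      ext x
      simp
    rw [h1]
    intro x hx
    exact h.1 x hx

end ToMathlib

end Groth.Agent.Lib.Helper6.PolyChar
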