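import Mathlib
import Groth.Prelude.Def_GrLC
import Groth.Prelude.Def_GrSyz
import Groth.Prelude.Def_CAlg
import Groth.Prelude.Def_Wider
import Groth.Agent.Lib.Helper6.CMReg.CRu
import Groth.Agent.Lib.Helper6.CMReg.CRw
import Groth.Agent.Lib.Helper6.PolyChar.PCa
import Groth.Agent.Lib.Helper6.PolyChar.PCc

set_option autoImplicit false
set_option linter.unusedSectionVars false
set_option linter.unusedVariables false
set_option linter.unusedSimpArgs false
set_option linter.style.haveILetI false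
set_option maxHeartbeats 400000

/-!
# A standard graded algebra over a field of regularity zero is a polynomial ring
-/

universe u

namespace Groth.Agent.Lib.Helper6.PolyChar

open CategoryTheory DirectSum Groth.Agent.Helper9.GrLCLib Groth.Agent.Helper8.LC
  Groth.Agent.Lib.Helper6.CMReg

section Families

variable {R : Type u} [CommRing R] {𝒜 : ℤ → AddSubgroup R} [GradedRing 𝒜]
  (M : GrLC.GMod.{u} 𝒜)

/-- elements of the span of a family -/
lemma exists_of_mem_spanM_ofFn : ∀ (n : ℕ) (v : Fin n → R) (m : M.carrier),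
    m ∈ spanM M (List.ofFn v) →
    ∃ c : Fin n → M.carrier, (∀ i, c i ∈ M.gr 0) ∧ m = ∑ i, v i • c i := by
  intro n
  induction n with
  | zero =>
    intro v m hm
    rw [List.ofFn_zero] at hm
    have hm0 : m = 0 := hm
    exact ⟨fun _ => 0, fun i => i.elim0, by rw [hm0]; simp⟩
  | succ n ih =>
    intro v m hm
    rw [List.ofFn_succ] at hm
    obtain ⟨c0, hc0, m', hm', rfl⟩ := hm
    obtain ⟨c', hc', rfl⟩ := ih (fun i => v i.succ) m' hm'
    refine ⟨Fin.cons c0 c', ?_, ?_⟩
    · intro i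
      refine Fin.cases ?_ (fun j => ?_) i
      · rw [Fin.cons_zero]; exact hc0
      · rw [Fin.cons_succ]; exact hc' j
    · rw [Fin.sum_univ_succ]
      simp only [Fin.cons_zero, Fin.cons_succ]

/-- linear independence of a family -/
lemma lim_ofFn : ∀ (n : ℕ) (v : Fin n → R),
    (∀ c : Fin n → M.carrier, (∀ i, c i ∈ M.gr 0) → ∑ i, v i • c i = 0 → ∀ i, c i = 0) →
    LIM M (List.ofFn v) := by
  intro n
  induction n with
  | zero =>
    intro v _
    rw [List.ofFn_zero]
    trivial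
  | succ n ih =>
    intro v h
    rw [List.ofFn_succ]
    refine ⟨?_, ?_⟩
    · intro c0 hc0 m' hm' hsum
      obtain ⟨c', hc', rfl⟩ := exists_of_mem_spanM_ofFn M n (fun i => v i.succ) m' hm'
      have h1 := h (Fin.cons c0 c') (by
        intro i
        refine Fin.cases ?_ (fun j => ?_) i
        · rw [Fin.cons_zero]; exact hc0
        · rw [Fin.cons_succ]; exact hc' j) (by
        rw [Fin.sum_univ_succ]
        simp only [Fin.cons_zero, Fin.cons_succ]
        exact hsum) 0
      rwa [Fin.cons_zero] at h1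
    · apply ih
      intro c' hc' hsum i
      have h1 := h (Fin.cons 0 c') (by
        intro i
        refine Fin.cases ?_ (fun j => ?_) i
        · rw [Fin.cons_zero]; exact (M.gr 0).zero_mem
        · rw [Fin.cons_succ]; exact hc' j) (by
        rw [Fin.sum_univ_succ]
        simp only [Fin.cons_zero, Fin.cons_succ, smul_zero, zero_add]
        exact hsum) i.succ
      rwa [Fin.cons_succ] at h1

end Families

section Surj

variable {R : Type u} [CommRing R] [IsNoetherianRing R] (𝒜 : ℤ → AddSubgroup R) [GradedRing 𝒜]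
  (hpos : ∀ n : ℤ, n < 0 → 𝒜 n = ⊥)

include hpos in
/-- a standard graded ring is generated by its linear forms over the degree zero part -/
theorem aeval_surjective (N : ℕ) (xs : Fin N → R) (hxs : ∀ i, xs i ∈ 𝒜 1)
    (hspan : (GrSyz.irrel 𝒜).toIdeal = Ideal.span (Set.range xs)) :
    Function.Surjective
      (MvPolynomial.aeval xs : MvPolynomial (Fin N) (GrLC.deg0 𝒜) →ₐ[GrLC.deg0 𝒜] R) := by
  classical
  set S := (MvPolynomial.aeval xs :
    MvPolynomial (Fin N) (GrLC.deg0 𝒜) →ₐ[GrLC.deg0 𝒜] R).range with hS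
  have hX : ∀ i, xs i ∈ S := fun i => ⟨MvPolynomial.X i, MvPolynomial.aeval_X xs i⟩
  have key : ∀ j : ℕ, ∀ x ∈ 𝒜 (j : ℤ), x ∈ S := by
    intro j
    induction j with
    | zero =>
      intro x hx
      have : x = algebraMap (GrLC.deg0 𝒜) R ⟨x, hx⟩ := rfl
      rw [this]
      exact S.algebraMap_mem _
    | succ j ih =>
      intro x hx
      have h1 : ((j + 1 : ℕ) : ℤ) = (j : ℤ) + 1 := by push_cast; ring
      rw [h1] at hx
      have hx' : x ∈ GrLC.comp 𝒜 𝒜 ((j : ℤ) + 1) := hx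
      rw [comp_succ_eq 𝒜 N xs hxs hspan j (by omega)] at hx'
      have hle : (⨆ i : Fin N, (GrLC.comp 𝒜 𝒜 (j : ℤ)).map (mulK 𝒜 (xs i))) ≤
          Subalgebra.toSubmodule S := by
        apply iSup_le
        intro i
        rintro _ ⟨y, hy, rfl⟩
        rw [mulK_apply]
        exact S.mul_mem (hX i) (ih y hy)
      exact hle hx'
  intro x
  have hx : x ∈ S := by
    rw [← DirectSum.sum_support_decompose 𝒜 x]
    apply Subalgebra.sum_mem
    intro k _
    have hk : ((DirectSum.decompose 𝒜 x k : 𝒜 k) : R) ∈ 𝒜 k := (DirectSum.decompose 𝒜 x k).2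
    rcases lt_or_ge k 0 with hneg | hnn
    · have hbot : 𝒜 k = ⊥ := hpos k hneg
      have hk0 : ((DirectSum.decompose 𝒜 x k : 𝒜 k) : R) = 0 := by
        have h2 : ∀ y : R, y ∈ 𝒜 k → y = 0 := by
          intro y hy
          rw [hbot] at hy
          exact AddSubgroup.mem_bot.mp hy
        exact h2 _ hk
      rw [hk0]
      exact S.zero_mem
    · obtain ⟨j, rfl⟩ := Int.eq_ofNat_of_zero_le hnn
      exact key j _ hk
  exact hx

end Surj

section Main

/-- a standard graded algebra over a field whose local cohomology vanishes in positive total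
degree is a polynomial ring on its linear forms -/
theorem exists_algEquiv_of_van (R : Type u) [CommRing R] [IsNoetherianRing R]
    (𝒜 : ℤ → AddSubgroup R) [GradedRing 𝒜] (hpos : ∀ n : ℤ, n < 0 → 𝒜 n = ⊥)
    (h0 : IsField (GrLC.deg0 𝒜)) (m : HomogeneousIdeal 𝒜) (hne : m.toIdeal ≠ ⊤)
    (hmsp : m.toIdeal = Ideal.span (⋃ n ∈ Set.Ioi (0 : ℤ), (𝒜 n : Set R)))
    (hstd : Ideal.span (⋃ n ∈ Set.Ioi (0 : ℤ), (𝒜 n : Set R)) =
      Ideal.span ((𝒜 1 : AddSubgroup R) : Set R))
    (hreg : ∀ (q : ℕ) (k' : ℤ), 0 < k' + q → Van m (Rg 𝒜) q k') :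
    ∃ (N : ℕ) (e : MvPolynomial (Fin N) (GrLC.deg0 𝒜) ≃ₐ[GrLC.deg0 𝒜] R),
      ∀ i, e (MvPolynomial.X i) ∈ 𝒜 1 := by
  classical
  have hhom : m.toIdeal = Ideal.span ((𝒜 1 : AddSubgroup R) : Set R) := hmsp.trans hstd
  have hirr : (GrSyz.irrel 𝒜).toIdeal = m.toIdeal := (irrel_toIdeal 𝒜).trans hmsp.symm
  obtain ⟨ys0, hys0, hys0span⟩ := exists_list_gens m hhom
  have hxs0 : ∀ i : Fin ys0.length, ys0.get i ∈ 𝒜 1 := fun i => hys0 _ (List.get_mem ys0 i)
  have hspan0 : (GrSyz.irrel 𝒜).toIdeal = Ideal.span (Set.range ys0.get) := by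
    rw [hirr, hys0span, Set.range_list_get]
  letI : Field (GrLC.deg0 𝒜) := h0.toField
  haveI hfin : Module.Finite (GrLC.deg0 𝒜) (GrLC.comp 𝒜 𝒜 1) :=
    Module.Finite.iff_fg.mpr (comp_fg 𝒜 hpos ys0.length ys0.get hxs0 hspan0 1)
  obtain ⟨n, ⟨b⟩⟩ : ∃ n : ℕ, Nonempty (Module.Basis (Fin n) (GrLC.deg0 𝒜) (GrLC.comp 𝒜 𝒜 1)) :=
    ⟨_, ⟨Module.finBasis (GrLC.deg0 𝒜) (GrLC.comp 𝒜 𝒜 1)⟩⟩
  set v : Fin n → R := fun i => ((b i : GrLC.comp 𝒜 𝒜 1) : R) with hv
  have hv1 : ∀ i, v i ∈ 𝒜 1 := fun i => (b i).2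
  -- the family generates
  have hspanv : m.toIdeal = Ideal.span (Set.range v) := by
    rw [hhom]
    apply le_antisymm
    · rw [Ideal.span_le]
      intro x hx
      have h1 := b.sum_repr ⟨x, hx⟩
      have h2 : x = ∑ i, ((b.repr ⟨x, hx⟩ i : GrLC.deg0 𝒜) : R) * v i := by
        have := congrArg (Subtype.val) h1
        rw [Submodule.coe_sum] at this
        exact this.symm.trans (Finset.sum_congr rfl (fun i _ => rfl))
      rw [h2]
      apply Ideal.sum_mem
      intro i _
      exact Ideal.mul_mem_left _ _ (Ideal.subset_span ⟨i, rfl⟩)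
    · rw [Ideal.span_le]
      rintro _ ⟨i, rfl⟩
      exact Ideal.subset_span (hv1 i)
  set ys : List R := List.ofFn v with hysdef
  have hys : ∀ y ∈ ys, y ∈ 𝒜 1 := by
    intro y hy
    obtain ⟨i, rfl⟩ := (List.mem_ofFn' _ _).mp hy
    exact hv1 i
  have hset : {y | y ∈ ys} = Set.range v := by
    ext y
    exact List.mem_ofFn' _ _
  have ha : m.toIdeal = Ideal.span {y | y ∈ ys} := by rw [hset]; exact hspanv
  -- linear independence
  have hLIcore : ∀ c : Fin n → R, (∀ i, c i ∈ 𝒜 0) → ∑ i, v i * c i = 0 → ∀ i, c i = 0 := by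
    intro c hc hsum i
    have hsum' : ∑ i, (⟨c i, hc i⟩ : GrLC.deg0 𝒜) • b i = 0 := by
      apply Subtype.ext
      rw [Submodule.coe_sum]
      refine Eq.trans (Finset.sum_congr rfl (fun i _ => ?_)) hsum
      show (c i : R) * v i = v i * c i
      exact mul_comm _ _
    have h4 := Fintype.linearIndependent_iff.mp b.linearIndependent _ hsum' i
    exact congrArg Subtype.val h4
  have hLI : LIM (Rg 𝒜) ys := lim_ofFn (Rg 𝒜) n v hLIcore
  have hposcore : ∀ n : ℤ, n < 0 → ∀ c : R, c ∈ 𝒜 n → c = 0 := by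
    intro n hn c hc
    have hbot : 𝒜 n = ⊥ := hpos n hn
    rw [hbot] at hc
    exact AddSubgroup.mem_bot.mp hc
  have hposM : ∀ n : ℤ, n < 0 → ∀ c ∈ (Rg 𝒜).gr n, c = 0 := hposcore
  -- the regular sequence
  have hL := lowDeg_kp m (Rg 𝒜) hposM ys hys hLI
  have h1 := h1zero_of_reg (kp m (Rg 𝒜) ys hys) hL ha hreg
  have hrr := regRev_of_h1zero m (Rg 𝒜) hposM ys hys hLI h1
  have hwr : RingTheory.Sequence.IsWeaklyRegular R ys.reverse :=
    isWeaklyRegular_reverse_of_regRevM (Rg 𝒜) ys hrr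
  -- the evaluation map
  set z : Fin ys.reverse.length → R := ys.reverse.get with hz
  have hzrange : Set.range z = Set.range v := by
    rw [hz, Set.range_list_get, ← hset]
    ext y
    simp
  have hz1 : ∀ i, z i ∈ 𝒜 1 := by
    intro i
    have : z i ∈ Set.range v := by rw [← hzrange]; exact ⟨i, rfl⟩
    obtain ⟨j, hj⟩ := this
    rw [← hj]
    exact hv1 j
  have hinj : Function.Injective (MvPolynomial.aeval z :
      MvPolynomial (Fin ys.reverse.length) (GrLC.deg0 𝒜) →ₐ[GrLC.deg0 𝒜] R) := by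
    rw [injective_iff_map_eq_zero]
    apply aeval_eq_zero_imp (GrLC.deg0 𝒜) ys.reverse.length R z
    · rw [hz, List.ofFn_get]
      exact hwr
    · intro c hc
      rw [hzrange, ← hspanv] at hc
      by_contra hc0
      obtain ⟨d, hd⟩ := h0.mul_inv_cancel hc0
      apply hne
      rw [Ideal.eq_top_iff_one]
      have h5 : (1 : R) = (c : R) * (d : R) := by
        have := congrArg Subtype.val hd
        exact this.symm
      rw [h5]
      exact Ideal.mul_mem_right _ _ hc
  have hsurj := aeval_surjective 𝒜 hpos ys.reverse.length z hz1 (by rw [hirr, hzrange, hspanv])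
  refine ⟨ys.reverse.length, AlgEquiv.ofBijective _ ⟨hinj, hsurj⟩, ?_⟩
  intro i
  rw [AlgEquiv.ofBijective_apply, MvPolynomial.aeval_X]
  exact hz1 i

end Main

end Groth.Agent.Lib.Helper6.PolyChar
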