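import Mathlib
import Groth.Prelude.Def_GrLC
import Groth.Prelude.Def_GrSyz
import Groth.Prelude.Def_CAlg
import Groth.Prelude.Def_Wider
import Groth.Agent.Lib.Helper6.CMReg.CRu
import Groth.Agent.Lib.Helper6.CMReg.CRw
import Groth.Agent.Lib.Helper6.PolyChar.PCd

set_option autoImplicit false
set_option linter.unusedSectionVars false
set_option linter.unusedVariables false
set_option linter.unusedSimpArgs false
set_option linter.style.haveILetI false
set_option maxHeartbeats 400000

/-!
# The embedding dimension of a standard graded algebra at its irrelevant ideal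
-/

universe u

namespace Groth.Agent.Lib.Helper6.PolyChar

open CategoryTheory DirectSum Groth.Agent.Helper9.GrLCLib Groth.Agent.Helper8.LC
  Groth.Agent.Lib.Helper6.CMReg

section Core

variable {R : Type u} [CommRing R] (𝒜 : ℤ → AddSubgroup R) [GradedRing 𝒜]
  (hpos : ∀ n : ℤ, n < 0 → 𝒜 n = ⊥)

include hpos in
lemma eq_zero_of_mem_neg {k : ℤ} (hk : k < 0) {y : R} (hy : y ∈ 𝒜 k) : y = 0 := by
  have hbot : 𝒜 k = ⊥ := hpos k hk
  rw [hbot] at hy
  exact AddSubgroup.mem_bot.mp hy

include hpos in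
lemma proj_neg (x : R) {k : ℤ} (hk : k < 0) : proj 𝒜 k x = 0 :=
  eq_zero_of_mem_neg 𝒜 hpos hk (proj_mem 𝒜 k x)

include hpos in
/-- elements of the ideal of linear forms have no constant term -/
lemma proj_zero_mul_of_mem {x : R}
    (hx : x ∈ Ideal.span ((𝒜 1 : AddSubgroup R) : Set R)) : ∀ r : R, proj 𝒜 0 (r * x) = 0 := by
  induction hx using Submodule.span_induction with
  | mem s hs =>
    intro r
    have h := proj_smul_of_mem_right' 𝒜 𝒜 hs r 0
    rw [smul_eq_mul] at h
    rw [h, ← proj_apply]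
    rw [proj_neg 𝒜 hpos r (by norm_num), zero_smul]
  | zero => intro r; rw [mul_zero, map_zero]
  | add a b _ _ ha hb => intro r; rw [mul_add, map_add, ha r, hb r, add_zero]
  | smul r' a _ ha => intro r; rw [smul_eq_mul, ← mul_assoc]; exact ha (r * r')

include hpos in
lemma proj_zero_of_mem {x : R}
    (hx : x ∈ Ideal.span ((𝒜 1 : AddSubgroup R) : Set R)) : proj 𝒜 0 x = 0 := by
  have := proj_zero_mul_of_mem 𝒜 hpos hx 1
  rwa [one_mul] at this

include hpos in
/-- products of two elements of the ideal of linear forms have no linear term -/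
lemma proj_one_mul_of_mem {b : R}
    (hb : b ∈ Ideal.span ((𝒜 1 : AddSubgroup R) : Set R)) :
    ∀ a ∈ Ideal.span ((𝒜 1 : AddSubgroup R) : Set R), proj 𝒜 1 (a * b) = 0 := by
  induction hb using Submodule.span_induction with
  | mem s hs =>
    intro a ha
    have h := proj_smul_of_mem_right' 𝒜 𝒜 hs a 1
    rw [smul_eq_mul] at h
    rw [h, ← proj_apply, sub_self, proj_zero_of_mem 𝒜 hpos ha, zero_smul]
  | zero => intro a _; rw [mul_zero, map_zero]
  | add x y _ _ hx hy => intro a ha; rw [mul_add, map_add, hx a ha, hy a ha, add_zero]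
  | smul r' x _ hx =>
    intro a ha
    rw [smul_eq_mul, ← mul_assoc]
    exact hx (a * r') (Ideal.mul_mem_right _ _ ha)

include hpos in
lemma proj_one_of_mem_sq {x : R}
    (hx : x ∈ Ideal.span ((𝒜 1 : AddSubgroup R) : Set R) ^ 2) : proj 𝒜 1 x = 0 := by
  rw [pow_two] at hx
  refine Submodule.mul_induction_on hx ?_ ?_
  · intro a ha b hb
    exact proj_one_mul_of_mem 𝒜 hpos hb a ha
  · intro x y hx hy
    rw [map_add, hx, hy, add_zero]

include hpos in
/-- an element without constant term lies in the irrelevant ideal -/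
lemma mem_span_of_proj_zero {x : R} (hx : proj 𝒜 0 x = 0) :
    x ∈ Ideal.span (⋃ n ∈ Set.Ioi (0 : ℤ), (𝒜 n : Set R)) := by
  classical
  rw [← DirectSum.sum_support_decompose 𝒜 x]
  apply Ideal.sum_mem
  intro k _
  rcases lt_trichotomy k 0 with hk | rfl | hk
  · have h1 : ((DirectSum.decompose 𝒜 x k : 𝒜 k) : R) = 0 := proj_neg 𝒜 hpos x hk
    rw [h1]
    exact Ideal.zero_mem _
  · have h1 : ((DirectSum.decompose 𝒜 x 0 : 𝒜 0) : R) = 0 := hx
    rw [h1]
    exact Ideal.zero_mem _
  · apply Ideal.subset_span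
    exact Set.mem_biUnion (Set.mem_Ioi.mpr hk) (SetLike.coe_mem _)

include hpos in
/-- the key computation in degree one -/
theorem core_deg_one (h0 : IsField (GrLC.deg0 𝒜)) (J : Ideal R)
    (hmsp : J = Ideal.span (⋃ n ∈ Set.Ioi (0 : ℤ), (𝒜 n : Set R)))
    (hm1 : J = Ideal.span ((𝒜 1 : AddSubgroup R) : Set R))
    {n : ℕ} (v : Fin n → R) (hv : ∀ i, v i ∈ 𝒜 1)
    (hLI : ∀ c : Fin n → R, (∀ i, c i ∈ 𝒜 0) → ∑ i, v i * c i = 0 → ∀ i, c i = 0)
    (t : R) (ht : t ∉ J) (c : Fin n → R) (h : t * ∑ i, c i * v i ∈ J ^ 2) :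
    ∀ i, c i ∈ J := by
  classical
  set c0 : Fin n → R := fun i => proj 𝒜 0 (c i) with hc0def
  have hc0 : ∀ i, c0 i ∈ 𝒜 0 := fun i => proj_mem 𝒜 0 (c i)
  have hc' : ∀ i, c i - c0 i ∈ J := by
    intro i
    rw [hmsp]
    apply mem_span_of_proj_zero 𝒜 hpos
    rw [map_sub, proj_of_mem_same 𝒜 (hc0 i), sub_self]
  set w : R := ∑ i, v i * c0 i with hw
  have hw1 : w ∈ 𝒜 1 := by
    apply sum_mem
    intro i _
    have h1 := SetLike.GradedMul.mul_mem (hv i) (hc0 i)
    rw [add_zero] at h1
    exact h1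
  have hvm : ∀ i, v i ∈ J := fun i => by rw [hm1]; exact Ideal.subset_span (hv i)
  have h2 : t * w ∈ J ^ 2 := by
    have e1 : t * w = t * ∑ i, c i * v i - t * ∑ i, (c i - c0 i) * v i := by
      rw [← mul_sub, ← Finset.sum_sub_distrib]
      congr 1
      apply Finset.sum_congr rfl
      intro i _
      ring
    rw [e1]
    apply Ideal.sub_mem _ h
    apply Ideal.mul_mem_left
    apply Ideal.sum_mem
    intro i _
    rw [pow_two]
    exact Ideal.mul_mem_mul (hc' i) (hvm i)
  have h3 : proj 𝒜 1 (t * w) = 0 := by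
    rw [hm1] at h2
    exact proj_one_of_mem_sq 𝒜 hpos h2
  have h4 := proj_smul_of_mem_right' 𝒜 𝒜 hw1 t 1
  rw [smul_eq_mul, h3, ← proj_apply, sub_self, smul_eq_mul] at h4
  have ht0 : proj 𝒜 0 t ≠ 0 := by
    intro h5
    apply ht
    rw [hmsp]
    exact mem_span_of_proj_zero 𝒜 hpos h5
  obtain ⟨d, hd⟩ := h0.mul_inv_cancel (a := (⟨proj 𝒜 0 t, proj_mem 𝒜 0 t⟩ : GrLC.deg0 𝒜))
    (by
      intro h5
      apply ht0
      exact congrArg Subtype.val h5)
  have hw0 : w = 0 := by
    have h5 : proj 𝒜 0 t * (d : R) = 1 := congrArg Subtype.val hd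
    calc w = (proj 𝒜 0 t * (d : R)) * w := by rw [h5, one_mul]
      _ = (d : R) * (proj 𝒜 0 t * w) := by ring
      _ = 0 := by rw [← h4, mul_zero]
  have hc00 := hLI c0 hc0 hw0
  intro i
  have h6 := hc' i
  rw [hc00 i, sub_zero] at h6
  exact h6

end Core

section Loc

/-- the number of independent linear forms is at most the embedding dimension -/
theorem card_le_of_regular (R : Type u) [CommRing R] [IsNoetherianRing R]
    (𝒜 : ℤ → AddSubgroup R) [GradedRing 𝒜] (hpos : ∀ n : ℤ, n < 0 → 𝒜 n = ⊥)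
    (h0 : IsField (GrLC.deg0 𝒜)) (J : Ideal R) [hp : J.IsPrime]
    (hmsp : J = Ideal.span (⋃ n ∈ Set.Ioi (0 : ℤ), (𝒜 n : Set R)))
    (hm1 : J = Ideal.span ((𝒜 1 : AddSubgroup R) : Set R))
    [hreg : IsRegularLocalRing (Localization.AtPrime J)] (r : ℕ) (hht : J.height = r)
    {n : ℕ} (v : Fin n → R) (hv : ∀ i, v i ∈ 𝒜 1)
    (hLI : ∀ c : Fin n → R, (∀ i, c i ∈ 𝒜 0) → ∑ i, v i * c i = 0 → ∀ i, c i = 0) :
    n ≤ r := by
  classical
  set A := Localization.AtPrime J with hA
  have hmax : IsLocalRing.maximalIdeal A = Ideal.map (algebraMap R A) J :=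
    (Localization.AtPrime.map_eq_maximalIdeal).symm
  have hvm : ∀ i, v i ∈ J := fun i => by rw [hm1]; exact Ideal.subset_span (hv i)
  have hwm : ∀ i, algebraMap R A (v i) ∈ IsLocalRing.maximalIdeal A := fun i => by
    rw [hmax]; exact Ideal.mem_map_of_mem _ (hvm i)
  set w : Fin n → IsLocalRing.maximalIdeal A := fun i => ⟨algebraMap R A (v i), hwm i⟩ with hw
  have hfin : Module.finrank (IsLocalRing.ResidueField A) (IsLocalRing.CotangentSpace A) = r := by
    have h1 := (IsRegularLocalRing.iff_finrank_cotangentSpace A).mp hreg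
    rw [IsLocalization.AtPrime.ringKrullDim_eq_height J A, hht] at h1
    exact_mod_cast h1
  have hli : LinearIndependent (IsLocalRing.ResidueField A)
      (fun i => (IsLocalRing.maximalIdeal A).toCotangent (w i)) := by
    rw [Fintype.linearIndependent_iff]
    intro g hg i
    have hsurj := IsLocalRing.residue_surjective (R := A)
    choose a ha using fun i => hsurj (g i)
    have h1 : (IsLocalRing.maximalIdeal A).toCotangent (∑ i, a i • w i) = 0 := by
      rw [map_sum, ← hg]
      apply Finset.sum_congr rfl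
      intro i _
      rw [map_smul, ← ha i]
      rfl
    rw [Ideal.toCotangent_eq_zero] at h1
    have h2 : ∑ i, a i * algebraMap R A (v i) ∈ IsLocalRing.maximalIdeal A ^ 2 := by
      have e1 : ((∑ i, a i • w i : IsLocalRing.maximalIdeal A) : A) =
          ∑ i, a i * algebraMap R A (v i) := by
        rw [Submodule.coe_sum]
        rfl
      rw [← e1]
      exact h1
    obtain ⟨b, hb⟩ := IsLocalization.exist_integer_multiples J.primeCompl Finset.univ a
    choose c hc using fun i => hb i (Finset.mem_univ i)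
    have h3 : algebraMap R A (∑ i, c i * v i) ∈ Ideal.map (algebraMap R A) (J ^ 2) := by
      rw [Ideal.map_pow, ← hmax]
      have e2 : algebraMap R A (∑ i, c i * v i) =
          algebraMap R A b * ∑ i, a i * algebraMap R A (v i) := by
        rw [map_sum, Finset.mul_sum]
        apply Finset.sum_congr rfl
        intro i _
        rw [map_mul, hc i, Algebra.smul_def, mul_assoc]
      rw [e2]
      exact Ideal.mul_mem_left _ _ h2
    rw [IsLocalization.mem_map_algebraMap_iff J.primeCompl A] at h3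
    obtain ⟨⟨x, s⟩, hxs⟩ := h3
    rw [← map_mul, IsLocalization.eq_iff_exists J.primeCompl A] at hxs
    obtain ⟨t, ht⟩ := hxs
    have h4 : ((t : R) * (s : R)) * ∑ i, c i * v i ∈ J ^ 2 := by
      have e3 : ((t : R) * (s : R)) * ∑ i, c i * v i = t * x := by
        rw [← ht]; ring
      rw [e3]
      exact Ideal.mul_mem_left _ _ x.2
    have hts : (t : R) * (s : R) ∉ J := (t * s).2
    have h5 := core_deg_one 𝒜 hpos h0 J hmsp hm1 v hv hLI _ hts c h4
    have h6 : algebraMap R A b * a i ∈ IsLocalRing.maximalIdeal A := by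
      rw [← Algebra.smul_def, ← hc i, hmax]
      exact Ideal.mem_map_of_mem _ (h5 i)
    have h7 : a i ∈ IsLocalRing.maximalIdeal A := by
      rcases (IsLocalRing.maximalIdeal.isMaximal A).isPrime.mem_or_mem h6 with h | h
      · exfalso
        exact (IsLocalRing.mem_maximalIdeal _).mp h (IsLocalization.map_units A b)
      · exact h
    rw [← ha i]
    exact (IsLocalRing.residue_eq_zero_iff _).mpr h7
  have h8 := hli.fintype_card_le_finrank
  rw [Fintype.card_fin, hfin] at h8
  exact h8

end Loc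

section Transport

/-- weakly regular sequences transport along ring isomorphisms -/
lemma isWeaklyRegular_map_ringEquiv {S R : Type u} [CommRing S] [CommRing R] (e : S ≃+* R)
    (xs : List S) (h : RingTheory.Sequence.IsWeaklyRegular S xs) :
    RingTheory.Sequence.IsWeaklyRegular R (xs.map e) := by
  letI : Algebra S R := e.toRingHom.toAlgebra
  have h1 : RingTheory.Sequence.IsWeaklyRegular R xs := by
    let l : S ≃ₗ[S] R :=
      { e.toAddEquiv with
        map_smul' := fun a b => by
          show e (a * b) = e a * e b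
          exact map_mul e a b }
    exact (LinearEquiv.isWeaklyRegular_congr l xs).mp h
  exact (RingTheory.Sequence.isWeaklyRegular_map_algebraMap_iff R R xs).mpr h1

end Transport

end Groth.Agent.Lib.Helper6.PolyChar
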