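import Mathlib
import Groth.Prelude.Def_GrLC
import Groth.Prelude.Def_GrSyz
import Groth.Prelude.Def_CAlg
import Groth.Prelude.Def_Wider
import Groth.Agent.Lib.Lead.SecReg1
import Groth.Agent.Lib.Helper6.CMReg.CRi
import Groth.Agent.Lib.Helper6.CMReg.CRj
import Groth.Agent.Lib.Helper6.CMReg.CRu
import Groth.Agent.Lib.Helper6.CMReg.CRw
import Groth.Agent.Lib.Helper6.PolyChar.PCd
import Groth.Agent.Lib.Helper6.PolyChar.PCe

set_option autoImplicit false
set_option linter.unusedSectionVars false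
set_option linter.unusedVariables false
set_option linter.unusedSimpArgs false
set_option linter.style.haveILetI false
set_option maxHeartbeats 400000

/-!
# Characterisation of polynomial rings by the `a`-invariant
-/

universe u

namespace Groth.Agent.Lib.Helper6.PolyChar

open CategoryTheory DirectSum Groth.Agent.Helper9.GrLCLib Groth.Agent.Helper8.LC
  Groth.Agent.Lib.Helper6.CMReg Groth.Agent.Helper9 Groth.Agent.Helper8

section Basis

/-- a basis of the linear forms generates the irrelevant ideal -/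
theorem exists_linear_basis (R : Type u) [CommRing R] [IsNoetherianRing R]
    (𝒜 : ℤ → AddSubgroup R) [GradedRing 𝒜] (hpos : ∀ n : ℤ, n < 0 → 𝒜 n = ⊥)
    (h0 : IsField (GrLC.deg0 𝒜)) (m : HomogeneousIdeal 𝒜)
    (hmsp : m.toIdeal = Ideal.span (⋃ n ∈ Set.Ioi (0 : ℤ), (𝒜 n : Set R)))
    (hstd : Ideal.span (⋃ n ∈ Set.Ioi (0 : ℤ), (𝒜 n : Set R)) =
      Ideal.span ((𝒜 1 : AddSubgroup R) : Set R)) :
    ∃ (n : ℕ) (v : Fin n → R), (∀ i, v i ∈ 𝒜 1) ∧ m.toIdeal = Ideal.span (Set.range v) ∧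
      (∀ c : Fin n → R, (∀ i, c i ∈ 𝒜 0) → ∑ i, v i * c i = 0 → ∀ i, c i = 0) := by
  classical
  have hhom : m.toIdeal = Ideal.span ((𝒜 1 : AddSubgroup R) : Set R) := hmsp.trans hstd
  have hirr : (GrSyz.irrel 𝒜).toIdeal = m.toIdeal := (irrel_toIdeal 𝒜).trans hmsp.symm
  obtain ⟨ys0, hys0, hys0span⟩ := exists_list_gens m hhom
  have hxs0 : ∀ i : Fin ys0.length, ys0.get i ∈ 𝒜 1 := fun i => hys0 _ (List.get_mem ys0 i)
  have hspan0 : (GrSyz.irrel 𝒜).toIdeal = Ideal.span (Set.range ys0.get) := by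
    rw [hirr, hys0span, Set.range_list_get]
  letI : Field (GrLC.deg0 𝒜) := h0.toField
  haveI hfin : Module.Finite (GrLC.deg0 𝒜) (GrLC.comp 𝒜 𝒜 1) :=
    Module.Finite.iff_fg.mpr (comp_fg 𝒜 hpos ys0.length ys0.get hxs0 hspan0 1)
  obtain ⟨n, ⟨b⟩⟩ : ∃ n : ℕ, Nonempty (Module.Basis (Fin n) (GrLC.deg0 𝒜) (GrLC.comp 𝒜 𝒜 1)) :=
    ⟨_, ⟨Module.finBasis (GrLC.deg0 𝒜) (GrLC.comp 𝒜 𝒜 1)⟩⟩
  set v : Fin n → R := fun i => ((b i : GrLC.comp 𝒜 𝒜 1) : R) with hv
  have hv1 : ∀ i, v i ∈ 𝒜 1 := fun i => (b i).2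
  refine ⟨n, v, hv1, ?_, ?_⟩
  · rw [hhom]
    apply le_antisymm
    · rw [Ideal.span_le]
      intro x hx
      have h1 := b.sum_repr ⟨x, hx⟩
      have h2 : x = ∑ i, ((b.repr ⟨x, hx⟩ i : GrLC.deg0 𝒜) : R) * v i := by
        have := congrArg (Subtype.val) h1
        rw [Submodule.coe_sum] at this
        exact this.symm.trans (Finset.sum_congr rfl (fun i _ => rfl))
      rw [h2]
      apply Ideal.sum_mem
      intro i _
      exact Ideal.mul_mem_left _ _ (Ideal.subset_span ⟨i, rfl⟩)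
    · rw [Ideal.span_le]
      rintro _ ⟨i, rfl⟩
      exact Ideal.subset_span (hv1 i)
  · intro c hc hsum i
    have hsum' : ∑ i, (⟨c i, hc i⟩ : GrLC.deg0 𝒜) • b i = 0 := by
      apply Subtype.ext
      rw [Submodule.coe_sum]
      refine Eq.trans (Finset.sum_congr rfl (fun i _ => ?_)) hsum
      show (c i : R) * v i = v i * c i
      exact mul_comm _ _
    have h4 := Fintype.linearIndependent_iff.mp b.linearIndependent _ hsum' i
    exact congrArg Subtype.val h4

end Basis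

section Backward

/-- a regular standard graded algebra over a field is a polynomial ring on its linear forms -/
theorem bijective_of_regular (R : Type u) [CommRing R] [IsRegularRing R]
    (𝒜 : ℤ → AddSubgroup R) [GradedRing 𝒜] (hpos : ∀ n : ℤ, n < 0 → 𝒜 n = ⊥)
    (h0 : IsField (GrLC.deg0 𝒜)) (m : HomogeneousIdeal 𝒜) (hmax : m.toIdeal.IsMaximal)
    (hmsp : m.toIdeal = Ideal.span (⋃ n ∈ Set.Ioi (0 : ℤ), (𝒜 n : Set R)))
    (hstd : Ideal.span (⋃ n ∈ Set.Ioi (0 : ℤ), (𝒜 n : Set R)) =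
      Ideal.span ((𝒜 1 : AddSubgroup R) : Set R))
    (r : ℕ) (hr : ringKrullDim R = r) (hht : m.toIdeal.height = r) :
    ∃ v : Fin r → R, (∀ i, v i ∈ 𝒜 1) ∧ m.toIdeal = Ideal.span (Set.range v) ∧
      Function.Bijective
        (MvPolynomial.aeval v : MvPolynomial (Fin r) (GrLC.deg0 𝒜) →ₐ[GrLC.deg0 𝒜] R) := by
  classical
  obtain ⟨n, v, hv, hspan, hLI⟩ := exists_linear_basis R 𝒜 hpos h0 m hmsp hstd
  haveI : m.toIdeal.IsPrime := hmax.isPrime
  haveI : IsRegularLocalRing (Localization.AtPrime m.toIdeal) :=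
    IsRegularRing.isRegularLocalRing_localization m.toIdeal
  have hn : n ≤ r :=
    card_le_of_regular R 𝒜 hpos h0 m.toIdeal hmsp (hmsp.trans hstd) r hht v hv hLI
  have hsurj := aeval_surjective 𝒜 hpos n v hv (by rw [irrel_toIdeal, ← hmsp, hspan])
  letI : Field (GrLC.deg0 𝒜) := h0.toField
  have hdim : ringKrullDim (MvPolynomial (Fin n) (GrLC.deg0 𝒜)) = n := by
    rw [MvPolynomial.ringKrullDim_of_isNoetherianRing, ringKrullDim_eq_zero_of_field,
      Nat.card_fin, zero_add]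
  have hrn : r ≤ n := by
    have h1 := ringKrullDim_le_of_surjective
      (MvPolynomial.aeval v : MvPolynomial (Fin n) (GrLC.deg0 𝒜) →ₐ[GrLC.deg0 𝒜] R).toRingHom
      hsurj
    rw [hr, hdim] at h1
    exact_mod_cast h1
  obtain rfl : n = r := le_antisymm hn hrn
  refine ⟨v, hv, hspan, ?_, hsurj⟩
  rw [injective_iff_map_eq_zero]
  intro P hP
  by_contra hP0
  set f : MvPolynomial (Fin n) (GrLC.deg0 𝒜) →+* R :=
    (MvPolynomial.aeval v : MvPolynomial (Fin n) (GrLC.deg0 𝒜) →ₐ[GrLC.deg0 𝒜] R).toRingHom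
    with hf
  have hker : ∀ a ∈ Ideal.span {P}, f a = 0 := by
    intro a ha
    obtain ⟨c, rfl⟩ := Ideal.mem_span_singleton'.mp ha
    rw [map_mul]
    have : f P = 0 := hP
    rw [this, mul_zero]
  have hsurj2 := Ideal.Quotient.lift_surjective_of_surjective (Ideal.span {P}) hker hsurj
  have h1 : ringKrullDim R ≤
      ringKrullDim (MvPolynomial (Fin n) (GrLC.deg0 𝒜) ⧸ Ideal.span {P}) := by
    let f' : (MvPolynomial (Fin n) (GrLC.deg0 𝒜) ⧸ Ideal.span {P}) →+* R :=
      Ideal.Quotient.lift (Ideal.span {P}) f hker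
    have hf' : Function.Surjective f' := hsurj2
    exact ringKrullDim_le_of_surjective f' hf'
  have h2 := ringKrullDim_quotient_succ_le_of_nonZeroDivisor
    (mem_nonZeroDivisors_of_ne_zero hP0)
  have h4 : (n : WithBot ℕ∞) + 1 ≤ (n : WithBot ℕ∞) := by
    calc (n : WithBot ℕ∞) + 1 = ringKrullDim R + 1 := by rw [hr]
      _ ≤ ringKrullDim (MvPolynomial (Fin n) (GrLC.deg0 𝒜) ⧸ Ideal.span {P}) + 1 := by gcongr
      _ ≤ ringKrullDim (MvPolynomial (Fin n) (GrLC.deg0 𝒜)) := h2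
      _ = n := hdim
  have h5 : ((n + 1 : ℕ) : WithBot ℕ∞) ≤ ((n : ℕ) : WithBot ℕ∞) := by push_cast; exact h4
  have h6 : n + 1 ≤ n := by exact_mod_cast h5
  omega

/-- vanishing of local cohomology of a polynomial ring presented by linear forms -/
theorem van_of_bijective (R : Type u) [CommRing R] [IsNoetherianRing R]
    (𝒜 : ℤ → AddSubgroup R) [GradedRing 𝒜] (m : HomogeneousIdeal 𝒜)
    (hmsp : m.toIdeal = Ideal.span (⋃ n ∈ Set.Ioi (0 : ℤ), (𝒜 n : Set R)))
    (r : ℕ) (v : Fin r → R) (hv : ∀ i, v i ∈ 𝒜 1)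
    (hspan : m.toIdeal = Ideal.span (Set.range v))
    (hbij : Function.Bijective
      (MvPolynomial.aeval v : MvPolynomial (Fin r) (GrLC.deg0 𝒜) →ₐ[GrLC.deg0 𝒜] R)) :
    ∀ (q : ℕ) (k : ℤ), 0 < k + q → Van m (Rg 𝒜) q k := by
  intro q k hk
  set e : MvPolynomial (Fin r) (GrLC.deg0 𝒜) ≃ₐ[GrLC.deg0 𝒜] R :=
    AlgEquiv.ofBijective _ hbij with he
  have hzs : List.ofFn v = (List.ofFn
      (MvPolynomial.X : Fin r → MvPolynomial (Fin r) (GrLC.deg0 𝒜))).map e.toRingEquiv := by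
    rw [List.map_ofFn]
    congr 1
    funext i
    show v i = e (MvPolynomial.X i)
    rw [he, AlgEquiv.ofBijective_apply, MvPolynomial.aeval_X]
  have hofl : Ideal.ofList (List.ofFn v) = m.toIdeal := by
    rw [hspan]
    unfold Ideal.ofList
    congr 1
    ext y
    exact List.mem_ofFn' _ _
  refine van_of_regular_sequence 𝒜 m 0 (List.ofFn v) (Rg 𝒜) ?_ ?_ ?_ ?_ q k hk
  · intro y hy
    obtain ⟨i, rfl⟩ := (List.mem_ofFn' _ _).mp hy
    exact ⟨hv i, by rw [hspan]; exact Ideal.subset_span ⟨i, rfl⟩⟩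
  · have h1 := isWeaklyRegular_map_ringEquiv e.toRingEquiv _
      (Groth.Agent.Lead.SecReg.isWeaklyRegular_X (GrLC.deg0 𝒜) r)
    rw [← hzs] at h1
    exact h1
  · intro x hx y
    rw [hofl]
    exact Submodule.smul_mem_smul hx Submodule.mem_top
  · intro j hj (x : R) hx
    have h1 : x ∈ m.toIdeal := by
      rw [hmsp]
      exact Ideal.subset_span (Set.mem_biUnion (Set.mem_Ioi.mpr hj) hx)
    rw [hofl]
    have h2 : x • (1 : R) ∈ m.toIdeal • (⊤ : Submodule R R) :=
      Submodule.smul_mem_smul h1 Submodule.mem_top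
    have h3 : x • (1 : R) = x := by rw [smul_eq_mul, mul_one]
    rw [h3] at h2
    exact h2

end Backward

section Main

/-- the statement of S18644 -/
theorem main_18644 (R : Type u) [CommRing R] [LocCoh.IsCohenMacaulayRing R]
    (𝒜 : ℤ → AddSubgroup R) [GradedRing 𝒜] (hpos : ∀ n : ℤ, n < 0 → 𝒜 n = ⊥)
    (h0 : IsField (GrLC.deg0 𝒜)) (m : HomogeneousIdeal 𝒜) (hm : GrLC.IsStarLocal 𝒜 m)
    (hmsp : m.toIdeal = Ideal.span (⋃ n ∈ Set.Ioi (0 : ℤ), (𝒜 n : Set R)))
    (hstd : Ideal.span (⋃ n ∈ Set.Ioi (0 : ℤ), (𝒜 n : Set R)) =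
      Ideal.span ((𝒜 1 : AddSubgroup R) : Set R))
    (r : ℕ) (hr : ringKrullDim R = r) (I : GrLC.StarInjRes 𝒜 𝒜) :
    GrLC.endDeg (I.Hgr m r) = (((-(r : ℤ) : ℤ) : WithTop ℤ) : WithBot (WithTop ℤ)) ↔
      Nonempty (R ≃+* MvPolynomial (Fin r) (GrLC.deg0 𝒜)) := by
  have hmax : m.toIdeal.IsMaximal := Pos.isMaximal_of_isCoatom 𝒜 hpos m hm.1
  have hht : ringKrullDim R = m.toIdeal.height :=
    GrHt.ringKrullDim_eq_height_of_isStarLocal 𝒜 m hm
  have hht' : m.toIdeal.height = (r : ℕ∞) := by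
    rw [hr] at hht
    exact_mod_cast hht.symm
  letI : Field (GrLC.deg0 𝒜) := h0.toField
  constructor
  · intro hend
    have hdepth : LocCoh.idealDepth m.toIdeal R = m.toIdeal.height :=
      (Depth.isCohenMacaulayRing_iff_idealDepth_eq_height.mp inferInstance) m.toIdeal
        hmax.ne_top
    have hJM : m.toIdeal • (⊤ : Submodule R R) ≠ ⊤ := by
      intro h
      have h1 : (1 : R) ∈ m.toIdeal • (⊤ : Submodule R R) := by rw [h]; trivial
      have h2 : m.toIdeal • (⊤ : Submodule R R) ≤ m.toIdeal := by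
        rw [Submodule.smul_le]
        intro r hr n _
        exact Ideal.mul_mem_right _ _ hr
      exact hmax.ne_top ((Ideal.eq_top_iff_one _).mpr (h2 h1))
    have hle := (endDeg_le_iff (I.Hgr m r) (-(r : ℤ))).mp hend.le
    have hreg : ∀ (q : ℕ) (k' : ℤ), 0 < k' + q → Van m (Rg 𝒜) q k' := by
      intro q k' hk
      rcases lt_trichotomy q r with hlt | rfl | hgt
      · have hsub : Subsingleton (LocCoh.H m.toIdeal q R) := by
          apply subsingleton_of_lt_idealDepth m.toIdeal hJM q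
          rw [hdepth, hht']
          exact_mod_cast hlt
        intro z _
        exact @Subsingleton.elim _ hsub _ _
      · apply (van_iff_hcomp m 𝒜 I q k').mpr
        intro x hx
        have h1 : x ∈ I.Hgr m q k' := hx
        rw [hle k' (by omega)] at h1
        exact AddSubgroup.mem_bot.mp h1
      · have hsub : Subsingleton (LocCoh.H m.toIdeal q R) :=
          cdLE_of_ringKrullDim_le m.toIdeal r hr.le R q hgt
        intro z _
        exact @Subsingleton.elim _ hsub _ _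
    obtain ⟨N, e, he⟩ := exists_algEquiv_of_van R 𝒜 hpos h0 m hmax.ne_top hmsp hstd hreg
    have hdim : ringKrullDim (MvPolynomial (Fin N) (GrLC.deg0 𝒜)) = N := by
      rw [MvPolynomial.ringKrullDim_of_isNoetherianRing, ringKrullDim_eq_zero_of_field,
        Nat.card_fin, zero_add]
    have h1 := ringKrullDim_eq_of_ringEquiv e.toRingEquiv
    rw [hdim, hr] at h1
    have hNr : N = r := by exact_mod_cast h1
    subst hNr
    exact ⟨e.symm.toRingEquiv⟩
  · rintro ⟨e⟩
    haveI : IsRegularRing R := IsRegularRing.of_ringEquiv e.symm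
    obtain ⟨v, hv, hspan, hbij⟩ :=
      bijective_of_regular R 𝒜 hpos h0 m hmax hmsp hstd r hr hht'
    have hvan := van_of_bijective R 𝒜 m hmsp r v hv hspan hbij
    apply le_antisymm
    · apply (endDeg_le_iff (I.Hgr m r) (-(r : ℤ))).mpr
      intro k hk
      have h1 := (van_iff_hcomp m 𝒜 I r k).mp (hvan r k (by omega))
      rw [AddSubgroup.eq_bot_iff_forall]
      intro x hx
      exact h1 x hx
    · exact main_17771 R 𝒜 hpos hstd m hm r hr I

end Main

end Groth.Agent.Lib.Helper6.PolyChar
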