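import Mathlib
import Groth.Prelude.Def_GrLC
import Groth.Prelude.Def_GrSyz
import Groth.Prelude.Def_CAlg
import Groth.Prelude.Def_Wider
import Groth.Agent.Lib.Helper8.Depth33
import Groth.Agent.Lib.Helper6.CMReg.CRu
import Groth.Agent.Lib.Helper6.CMReg.CRw
import Groth.Agent.Lib.Helper6.PolyChar.PCe

set_option autoImplicit false
set_option linter.unusedSectionVars false
set_option linter.unusedVariables false
set_option linter.unusedSimpArgs false
set_option linter.style.haveILetI false
set_option maxHeartbeats 400000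

/-!
# Regular sequences of linear forms over an infinite residue field
-/

universe u

namespace Groth.Agent.Lib.Helper6.PolyChar

open CategoryTheory DirectSum Groth.Agent.Helper9.GrLCLib Groth.Agent.Helper8.LC
  Groth.Agent.Lib.Helper6.CMReg Groth.Agent.Helper9 Groth.Agent.Helper8

section Avoid

/-- avoidance of finitely many ideals by a "module over a ring with infinite residue field" -/
theorem exists_avoid {R : Type u} [CommRing R] (V : AddSubgroup R) (C : Set R) (hC : C.Infinite)
    (hCV : ∀ c ∈ C, ∀ v ∈ V, c * v ∈ V)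
    (hunit : ∀ c ∈ C, ∀ c' ∈ C, c ≠ c' → IsUnit (c - c'))
    (S : Finset (Ideal R)) :
    (∀ P ∈ S, ∃ v ∈ V, v ∉ P) → ∃ y ∈ V, ∀ P ∈ S, y ∉ P := by
  classical
  induction S using Finset.induction_on with
  | empty =>
    intro _
    exact ⟨0, V.zero_mem, fun P hP => absurd hP (Finset.notMem_empty P)⟩
  | insert P S hPS ih =>
    intro hS
    obtain ⟨u, huV, hu⟩ := ih (fun Q hQ => hS Q (Finset.mem_insert_of_mem hQ))
    by_cases huP : u ∈ P
    · obtain ⟨w, hwV, hwP⟩ := hS P (Finset.mem_insert_self P S)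
      have hbad : ∀ Q ∈ S, {c | c ∈ C ∧ c * u + w ∈ Q}.Subsingleton := by
        intro Q hQ c hc c' hc'
        by_contra hne
        have h1 : (c - c') * u ∈ Q := by
          have e1 : (c - c') * u = (c * u + w) - (c' * u + w) := by ring
          rw [e1]
          exact Q.sub_mem hc.2 hc'.2
        obtain ⟨e, he⟩ := hunit c hc.1 c' hc'.1 hne
        have h3 : u ∈ Q := by
          have e2 : u = (↑e⁻¹ : R) * ((c - c') * u) := by
            rw [← he, ← mul_assoc, Units.inv_mul, one_mul]
          rw [e2]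
          exact Q.mul_mem_left _ h1
        exact hu Q hQ h3
      have hfin : (⋃ Q ∈ (S : Set (Ideal R)), {c | c ∈ C ∧ c * u + w ∈ Q}).Finite :=
        Set.Finite.biUnion S.finite_toSet (fun Q hQ => (hbad Q hQ).finite)
      obtain ⟨c, hcC, hc⟩ := (hC.sdiff hfin).nonempty
      refine ⟨c * u + w, V.add_mem (hCV c hcC u huV) hwV, ?_⟩
      intro Q hQ
      rcases Finset.mem_insert.mp hQ with h | hQS
      · intro h'
        rw [h] at h'
        apply hwP
        have e3 : w = (c * u + w) - c * u := by ring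
        rw [e3]
        exact Ideal.sub_mem _ h' (Ideal.mul_mem_left _ _ huP)
      · intro h'
        apply hc
        exact Set.mem_biUnion (Finset.mem_coe.mpr hQS) ⟨hcC, h'⟩
    · refine ⟨u, huV, ?_⟩
      intro Q hQ
      rcases Finset.mem_insert.mp hQ with h | hQS
      · rw [h]; exact huP
      · exact hu Q hQS

end Avoid

section Units

variable {R : Type u} [CommRing R] [IsNoetherianRing R] (𝒜 : ℤ → AddSubgroup R) [GradedRing 𝒜]
  (hpos : ∀ n : ℤ, n < 0 → 𝒜 n = ⊥) (m : HomogeneousIdeal 𝒜) (hm : GrLC.IsStarLocal 𝒜 m)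

include hm in
/-- degree zero elements outside the *maximal ideal are units -/
lemma isUnit_of_notMem (u : R) (hu0 : u ∈ 𝒜 0) (hum : u ∉ m.toIdeal) : IsUnit u := by
  let J : HomogeneousIdeal 𝒜 := ⟨Ideal.span {u}, Ideal.homogeneous_span 𝒜 {u} (by
    rintro _ rfl
    exact ⟨0, hu0⟩)⟩
  have hJ : J = ⊤ := by
    by_contra hne
    exact hum (GrHt.le_of_isStarLocal 𝒜 m hm J hne (Ideal.subset_span rfl))
  have h1 : (1 : R) ∈ J.toIdeal := by
    rw [hJ]
    trivial
  exact Ideal.span_singleton_eq_top.mp ((Ideal.eq_top_iff_one _).mpr h1)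

include hpos hm in
/-- representatives of the residue field in degree zero -/
lemma exists_infinite_units_set (hinf : Infinite (R ⧸ m.toIdeal)) :
    ∃ C : Set R, C.Infinite ∧ (∀ c ∈ C, c ∈ 𝒜 0) ∧
      ∀ c ∈ C, ∀ c' ∈ C, c ≠ c' → IsUnit (c - c') := by
  have ham : (GrSyz.irrel 𝒜).toIdeal ≤ m.toIdeal := irrel_le_of_isStarLocal 𝒜 hpos m hm
  set σ : R ⧸ m.toIdeal → R := fun z => proj 𝒜 0 (Quotient.out z) with hσ
  have hσ0 : ∀ z, σ z ∈ 𝒜 0 := fun z => proj_mem 𝒜 0 _
  have hσmk : ∀ z, Ideal.Quotient.mk m.toIdeal (σ z) = z := by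
    intro z
    have h1 : Ideal.Quotient.mk m.toIdeal (Quotient.out z) = z := Ideal.Quotient.mk_out z
    rw [← h1]
    rw [Ideal.Quotient.eq]
    apply ham
    rw [irrel_toIdeal]
    apply mem_span_of_proj_zero 𝒜 hpos
    rw [map_sub, h1, proj_of_mem_same 𝒜 (hσ0 z), sub_self]
  have hσinj : Function.Injective σ := by
    intro z z' h
    rw [← hσmk z, ← hσmk z', h]
  refine ⟨Set.range σ, Set.infinite_range_of_injective hσinj, ?_, ?_⟩
  · rintro _ ⟨z, rfl⟩
    exact hσ0 z
  · rintro _ ⟨z, rfl⟩ _ ⟨z', rfl⟩ hne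
    apply isUnit_of_notMem 𝒜 m hm _ ((𝒜 0).sub_mem (hσ0 z) (hσ0 z'))
    intro h
    apply hne
    have h2 : Ideal.Quotient.mk m.toIdeal (σ z) = Ideal.Quotient.mk m.toIdeal (σ z') :=
      Ideal.Quotient.eq.mpr h
    rw [hσmk, hσmk] at h2
    rw [h2]

end Units

section Dim

open RingTheory.Sequence

/-- the dimension drops by at least the length of a regular sequence -/
theorem supportDim_quotient_ofList_add_length_le {R : Type u} [CommRing R] [IsNoetherianRing R]
    (rs : List R) :
    ∀ (M : Type u) [AddCommGroup M] [Module R M] [Module.Finite R M], IsWeaklyRegular M rs →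
      Module.supportDim R (M ⧸ Ideal.ofList rs • (⊤ : Submodule R M)) + rs.length ≤
        Module.supportDim R M := by
  induction rs with
  | nil =>
    intro M _ _ _ _
    have h1 : Ideal.ofList ([] : List R) • (⊤ : Submodule R M) = ⊥ := by
      rw [Ideal.ofList_nil, Submodule.bot_smul]
    rw [Module.supportDim_eq_of_equiv (Submodule.quotEquivOfEqBot _ h1)]
    simp
  | cons x rs' ih =>
    intro M _ _ _ hreg
    obtain ⟨hx, hxs⟩ := (isWeaklyRegular_cons_iff M x rs').mp hreg
    rw [Module.supportDim_eq_of_equiv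
      (Submodule.quotOfListConsSMulTopEquivQuotSMulTopInner M x rs')]
    have h1 := ih (QuotSMulTop x M) hxs
    have h2 := Module.supportDim_quotSMulTop_succ_le_of_notMem_minimalPrimes (M := M) (x := x)
      (fun _ hp => hx.notMem_of_mem_minimalPrimes hp)
    rw [List.length_cons]
    push_cast
    rw [← add_assoc]
    exact (add_le_add_left h1 1).trans h2

end Dim

end Groth.Agent.Lib.Helper6.PolyChar
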