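import Mathlib
import Groth.Prelude.Def_GrLC
import Groth.Prelude.Def_GrSyz
import Groth.Prelude.Def_CAlg
import Groth.Prelude.Def_Wider
import Groth.Agent.Lib.Helper8.Depth33
import Groth.Agent.Lib.Helper9.GrLC.Push
import Groth.Agent.Lib.Helper9.GrLC.Reg
import Groth.Agent.Lib.Helper6.CMReg.CRo
import Groth.Agent.Lib.Helper6.CMReg.CRu
import Groth.Agent.Lib.Helper6.CMReg.CRw
import Groth.Agent.Lib.Helper6.PolyChar.PCa
import Groth.Agent.Lib.Helper6.PolyChar.PCd
import Groth.Agent.Lib.Helper6.PolyChar.PCe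
import Groth.Agent.Lib.Helper6.PolyChar.PCg

set_option autoImplicit false
set_option linter.unusedSectionVars false
set_option linter.unusedVariables false
set_option linter.unusedSimpArgs false
set_option linter.style.haveILetI false
set_option maxHeartbeats 400000

/-!
# Standard graded Cohen–Macaulay rings with `a`-invariant `- dim` over an Artinian local ring
-/

universe u

namespace Groth.Agent.Lib.Helper6.PolyChar

open CategoryTheory DirectSum Groth.Agent.Helper9.GrLCLib Groth.Agent.Helper8.LC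
  Groth.Agent.Lib.Helper6.CMReg Groth.Agent.Helper9 Groth.Agent.Helper8
  RingTheory.Sequence

section Next

variable (R : Type u) [CommRing R] [LocCoh.IsCohenMacaulayRing R]
  (𝒜 : ℤ → AddSubgroup R) [GradedRing 𝒜] (hpos : ∀ n : ℤ, n < 0 → 𝒜 n = ⊥)
  (hstd : Ideal.span (⋃ n ∈ Set.Ioi (0 : ℤ), (𝒜 n : Set R)) =
    Ideal.span ((𝒜 1 : AddSubgroup R) : Set R))
  [IsArtinianRing (GrLC.deg0 𝒜)] (m : HomogeneousIdeal 𝒜) (hm : GrLC.IsStarLocal 𝒜 m)
  (hinf : Infinite (R ⧸ m.toIdeal)) (d : ℕ) (hd : ringKrullDim R = d)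

include hpos hstd hm hd in
/-- the height of the irrelevant ideal -/
lemma le_height_irrel : (d : ℕ∞) ≤ (GrSyz.irrel 𝒜).toIdeal.height := by
  have hmax : m.toIdeal.IsMaximal := Pos.isMaximal_of_isCoatom 𝒜 hpos m hm.1
  have hht : ringKrullDim R = m.toIdeal.height :=
    GrHt.ringKrullDim_eq_height_of_isStarLocal 𝒜 m hm
  have hht' : m.toIdeal.height = (d : ℕ∞) := by
    rw [hd] at hht
    exact_mod_cast hht.symm
  obtain ⟨N, hN⟩ := exists_pow_le_irrel 𝒜 hpos m hm
  rw [Ideal.height_eq_inf_minimalPrimes]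
  refine le_iInf₂ (fun J hJ => ?_)
  haveI : J.IsPrime := hJ.1.1
  have h1 : m.toIdeal ≤ J := Ideal.IsPrime.le_of_pow_le (hN.trans hJ.1.2)
  have h2 : m.toIdeal = J := hmax.eq_of_le hJ.1.1.ne_top h1
  rw [← h2, hht']

include hpos hstd hm hinf hd in
/-- extending a regular sequence of linear forms -/
theorem exists_next_linear_form (ys : List R) (hys : ∀ y ∈ ys, y ∈ 𝒜 1)
    (hreg : IsWeaklyRegular R ys) (hlen : ys.length < d) :
    ∃ y ∈ 𝒜 1, IsSMulRegular (R ⧸ Ideal.ofList ys • (⊤ : Submodule R R)) y := by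
  classical
  have hmax : m.toIdeal.IsMaximal := Pos.isMaximal_of_isCoatom 𝒜 hpos m hm.1
  set a : HomogeneousIdeal 𝒜 := GrSyz.irrel 𝒜 with hadef
  have hhom : a.toIdeal = Ideal.span ((𝒜 1 : AddSubgroup R) : Set R) :=
    (irrel_toIdeal 𝒜).trans hstd
  have ham : a.toIdeal ≤ m.toIdeal := irrel_le_of_isStarLocal 𝒜 hpos m hm
  have ha_ne : a.toIdeal ≠ ⊤ := fun h => hmax.ne_top (top_le_iff.mp (h ▸ ham))
  have hdepth : LocCoh.idealDepth a.toIdeal R = a.toIdeal.height :=
    (Depth.isCohenMacaulayRing_iff_idealDepth_eq_height.mp inferInstance) a.toIdeal ha_ne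
  have hht := le_height_irrel R 𝒜 hpos hstd m hm d hd
  have haR : a.toIdeal • (⊤ : Submodule R R) ≠ ⊤ := by
    intro h
    have h1 : (1 : R) ∈ a.toIdeal • (⊤ : Submodule R R) := by rw [h]; trivial
    have h2 : a.toIdeal • (⊤ : Submodule R R) ≤ a.toIdeal := by
      rw [Submodule.smul_le]
      intro r hr n _
      exact Ideal.mul_mem_right _ _ hr
    exact ha_ne ((Ideal.eq_top_iff_one _).mpr (h2 h1))
  have hmem : ∀ r ∈ ys, r ∈ a.toIdeal := by
    intro r hr
    rw [hhom]
    exact Ideal.subset_span (hys r hr)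
  set Mi := R ⧸ Ideal.ofList ys • (⊤ : Submodule R R) with hMi
  have h1 := Depth.idealDepth_quotient_ofList_add_length (I := a.toIdeal) ys R haR hreg hmem
  have h2 : (1 : ℕ∞) ≤ LocCoh.idealDepth a.toIdeal Mi := by
    by_contra hlt
    rw [not_le, Order.lt_one_iff] at hlt
    rw [hlt, zero_add, hdepth] at h1
    rw [← h1] at hht
    have h3 : d ≤ ys.length := by exact_mod_cast hht
    omega
  have haMi : a.toIdeal • (⊤ : Submodule R Mi) ≠ ⊤ := by
    intro h
    have hsurj : Function.Surjective (Submodule.mkQ (Ideal.ofList ys • (⊤ : Submodule R R))) :=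
      Submodule.mkQ_surjective _
    have h3 : (a.toIdeal • (⊤ : Submodule R R)).map
        (Submodule.mkQ (Ideal.ofList ys • (⊤ : Submodule R R))) = ⊤ := by
      rw [Submodule.map_smul'', Submodule.map_top, LinearMap.range_eq_top.mpr hsurj]
      exact h
    have h4 : (1 : R) ∈ a.toIdeal • (⊤ : Submodule R R) ⊔
        (Ideal.ofList ys • (⊤ : Submodule R R)) := by
      have h5 : Submodule.mkQ (Ideal.ofList ys • (⊤ : Submodule R R)) 1 ∈
          (a.toIdeal • (⊤ : Submodule R R)).map
            (Submodule.mkQ (Ideal.ofList ys • (⊤ : Submodule R R))) := by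
        rw [h3]; trivial
      obtain ⟨x, hx, hx1⟩ := h5
      have h6 : x - 1 ∈ Ideal.ofList ys • (⊤ : Submodule R R) := by
        rw [← Submodule.ker_mkQ (Ideal.ofList ys • (⊤ : Submodule R R)), LinearMap.mem_ker,
          map_sub, hx1, sub_self]
      have e1 : (1 : R) = x - (x - 1) := by ring
      rw [e1]
      exact Submodule.sub_mem _ (Submodule.mem_sup_left hx) (Submodule.mem_sup_right h6)
    have h7 : a.toIdeal • (⊤ : Submodule R R) ⊔ (Ideal.ofList ys • (⊤ : Submodule R R)) ≤
        a.toIdeal := by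
      apply sup_le
      · rw [Submodule.smul_le]
        intro r hr n _
        exact Ideal.mul_mem_right _ _ hr
      · rw [Submodule.smul_le]
        intro r hr n _
        apply Ideal.mul_mem_right
        have h8 : Ideal.ofList ys ≤ a.toIdeal := by
          unfold Ideal.ofList
          rw [Ideal.span_le]
          intro y hy
          exact hmem y hy
        exact h8 hr
    exact ha_ne ((Ideal.eq_top_iff_one _).mpr (h7 h4))
  obtain ⟨rs, hrs1, hrsreg, hrsmem⟩ := (Depth.le_idealDepth_iff haMi 1).mp h2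
  obtain ⟨r, rfl⟩ := List.length_eq_one_iff.mp hrs1
  have hr : IsSMulRegular Mi r := (isWeaklyRegular_singleton_iff Mi r).mp hrsreg
  have hra : r ∈ a.toIdeal := hrsmem r (List.mem_singleton.mpr rfl)
  obtain ⟨C, hCinf, hC0, hCunit⟩ := exists_infinite_units_set 𝒜 hpos m hm hinf
  have hfin := associatedPrimes.finite R Mi
  have hunion := biUnion_associatedPrimes_eq_compl_regular R Mi
  by_cases hS : ∀ P ∈ hfin.toFinset, ∃ v ∈ 𝒜 1, v ∉ P
  · obtain ⟨y, hy1, hy⟩ := exists_avoid (𝒜 1) C hCinf (fun c hc v hv => by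
      have h3 := SetLike.GradedMul.mul_mem (hC0 c hc) hv
      rw [zero_add] at h3
      exact h3) hCunit hfin.toFinset hS
    refine ⟨y, hy1, ?_⟩
    by_contra hyreg
    have h3 : y ∈ ({r : R | IsSMulRegular Mi r}ᶜ : Set R) := hyreg
    rw [← hunion] at h3
    simp only [Set.mem_iUnion] at h3
    obtain ⟨P, hP, hyP⟩ := h3
    exact hy P (hfin.mem_toFinset.mpr hP) hyP
  · exfalso
    push Not at hS
    obtain ⟨P, hP, hPV⟩ := hS
    have h3 : a.toIdeal ≤ P := by
      rw [hhom, Ideal.span_le]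
      intro v hv
      exact hPV v hv
    have h4 : r ∈ ⋃ p ∈ associatedPrimes R Mi, (p : Set R) :=
      Set.mem_biUnion (hfin.mem_toFinset.mp hP) (h3 hra)
    rw [hunion] at h4
    exact h4 hr

include hpos hstd hm hinf hd in
/-- a regular sequence of linear forms of any length up to the dimension -/
theorem exists_regular_linear_forms : ∀ i : ℕ, i ≤ d →
    ∃ ys : List R, ys.length = i ∧ (∀ y ∈ ys, y ∈ 𝒜 1) ∧ IsWeaklyRegular R ys := by
  intro i
  induction i with
  | zero =>
    intro _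
    exact ⟨[], rfl, fun y hy => absurd hy List.not_mem_nil, IsWeaklyRegular.nil R R⟩
  | succ i ih =>
    intro hi
    obtain ⟨ys, hlen, hys, hreg⟩ := ih (by omega)
    obtain ⟨y, hy1, hyreg⟩ := exists_next_linear_form R 𝒜 hpos hstd m hm hinf d hd ys hys hreg
      (by omega)
    refine ⟨ys ++ [y], by rw [List.length_append, hlen, List.length_singleton], ?_, ?_⟩
    · intro z hz
      rcases List.mem_append.mp hz with h | h
      · exact hys z h
      · rw [List.mem_singleton.mp h]
        exact hy1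
    · rw [isWeaklyRegular_append_iff]
      exact ⟨hreg, (isWeaklyRegular_singleton_iff _ y).mpr hyreg⟩

end Next

end Groth.Agent.Lib.Helper6.PolyChar
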