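import Mathlib
import Groth.Prelude.Def_GrLC
import Groth.Prelude.Def_GrSyz
import Groth.Prelude.Def_CAlg
import Groth.Prelude.Def_Wider
import Groth.Agent.Lib.Helper8.Depth33
import Groth.Agent.Lib.Helper9.GrLC.Push
import Groth.Agent.Lib.Helper9.GrLC.Reg
import Groth.Agent.Lib.Helper6.CMReg.CRi
import Groth.Agent.Lib.Helper6.CMReg.CRo
import Groth.Agent.Lib.Helper6.CMReg.CRu
import Groth.Agent.Lib.Helper6.CMReg.CRw
import Groth.Agent.Lib.Helper6.PolyChar.PCa
import Groth.Agent.Lib.Helper6.PolyChar.PCd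
import Groth.Agent.Lib.Helper6.PolyChar.PCe
import Groth.Agent.Lib.Helper6.PolyChar.PCg
import Groth.Agent.Lib.Helper6.PolyChar.PCh

set_option autoImplicit false
set_option linter.unusedSectionVars false
set_option linter.unusedVariables false
set_option linter.unusedSimpArgs false
set_option linter.style.haveILetI false
set_option maxHeartbeats 400000

/-!
# The statement of S19881
-/

universe u

namespace Groth.Agent.Lib.Helper6.PolyChar

open CategoryTheory DirectSum Groth.Agent.Helper9.GrLCLib Groth.Agent.Helper8.LC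
  Groth.Agent.Lib.Helper6.CMReg Groth.Agent.Helper9 Groth.Agent.Helper8
  RingTheory.Sequence

section Main

/-- the statement of S19881 -/
theorem main_19881 (R : Type u) [CommRing R] [LocCoh.IsCohenMacaulayRing R]
    (𝒜 : ℤ → AddSubgroup R) [GradedRing 𝒜] (hpos : ∀ n : ℤ, n < 0 → 𝒜 n = ⊥)
    (hstd : Ideal.span (⋃ n ∈ Set.Ioi (0 : ℤ), (𝒜 n : Set R)) =
      Ideal.span ((𝒜 1 : AddSubgroup R) : Set R))
    [IsArtinianRing (GrLC.deg0 𝒜)] (m : HomogeneousIdeal 𝒜) (hm : GrLC.IsStarLocal 𝒜 m)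
    (hinf : Infinite (R ⧸ m.toIdeal)) (d : ℕ) (hd : ringKrullDim R = d)
    (I : GrLC.StarInjRes 𝒜 𝒜)
    (ha : GrLC.endDeg (I.Hgr m d) = (((-(d : ℤ) : ℤ) : WithTop ℤ) : WithBot (WithTop ℤ))) :
    ∃ e : MvPolynomial (Fin d) (GrLC.deg0 𝒜) ≃ₐ[GrLC.deg0 𝒜] R,
      ∀ t : Fin d, e (MvPolynomial.X t) ∈ 𝒜 1 := by
  classical
  have hmax : m.toIdeal.IsMaximal := Pos.isMaximal_of_isCoatom 𝒜 hpos m hm.1
  have hht : ringKrullDim R = m.toIdeal.height :=
    GrHt.ringKrullDim_eq_height_of_isStarLocal 𝒜 m hm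
  have hht' : m.toIdeal.height = (d : ℕ∞) := by
    rw [hd] at hht
    exact_mod_cast hht.symm
  have hdepth : LocCoh.idealDepth m.toIdeal R = m.toIdeal.height :=
    (Depth.isCohenMacaulayRing_iff_idealDepth_eq_height.mp inferInstance) m.toIdeal hmax.ne_top
  have hJM : m.toIdeal • (⊤ : Submodule R R) ≠ ⊤ := by
    intro h
    have h1 : (1 : R) ∈ m.toIdeal • (⊤ : Submodule R R) := by rw [h]; trivial
    have h2 : m.toIdeal • (⊤ : Submodule R R) ≤ m.toIdeal := by
      rw [Submodule.smul_le]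
      intro r hr n _
      exact Ideal.mul_mem_right _ _ hr
    exact hmax.ne_top ((Ideal.eq_top_iff_one _).mpr (h2 h1))
  set a : HomogeneousIdeal 𝒜 := GrSyz.irrel 𝒜 with hadef
  have hhom : a.toIdeal = Ideal.span ((𝒜 1 : AddSubgroup R) : Set R) :=
    (irrel_toIdeal 𝒜).trans hstd
  have ham : a.toIdeal ≤ m.toIdeal := irrel_le_of_isStarLocal 𝒜 hpos m hm
  obtain ⟨N, hN⟩ := exists_pow_le_irrel 𝒜 hpos m hm
  have hgam : ∀ (X : Type u) [AddCommGroup X] [Module R X],
      GrLC.gam a.toIdeal X = GrLC.gam m.toIdeal X :=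
    fun X _ _ => gam_eq_of_le_of_pow_le a.toIdeal m.toIdeal ham N hN X
  -- regularity zero
  have hle := (endDeg_le_iff (I.Hgr m d) (-(d : ℤ))).mp ha.le
  have hSReg : SRegG 𝒜 a (Rg 𝒜) 0 := by
    intro q k' hk
    show Van a (GrLC.GMod.of 𝒜 R 𝒜) q k'
    rw [van_iff_of_gam_eq 𝒜 I a m hgam q k']
    rcases lt_trichotomy q d with hlt | rfl | hgt
    · have hsub : Subsingleton (LocCoh.H m.toIdeal q R) := by
        apply subsingleton_of_lt_idealDepth m.toIdeal hJM q
        rw [hdepth, hht']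
        exact_mod_cast hlt
      intro z _
      exact @Subsingleton.elim _ hsub _ _
    · apply (van_iff_hcomp m 𝒜 I q k').mpr
      intro x hx
      have h1 : x ∈ I.Hgr m q k' := hx
      rw [hle k' (by omega)] at h1
      exact AddSubgroup.mem_bot.mp h1
    · have hsub : Subsingleton (LocCoh.H m.toIdeal q R) :=
        cdLE_of_ringKrullDim_le m.toIdeal d hd.le R q hgt
      intro z _
      exact @Subsingleton.elim _ hsub _ _
  -- a regular sequence of linear forms
  obtain ⟨ys, hlen, hys, hreg⟩ :=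
    exists_regular_linear_forms R 𝒜 hpos hstd m hm hinf d hd d le_rfl
  subst hlen
  have hys' : ∀ y ∈ ys, y ∈ 𝒜 1 ∧ y ∈ a.toIdeal := by
    intro y hy
    refine ⟨hys y hy, ?_⟩
    rw [hhom]
    exact Ideal.subset_span (hys y hy)
  -- the quotient
  set P : Ideal R := Ideal.ofList ys • (⊤ : Submodule R R) with hPdef
  have hPeq : P = Ideal.ofList ys := by
    rw [hPdef, smul_eq_mul, Ideal.mul_top]
  have hPhom : ∀ (k : ℤ) (x : R), x ∈ P → proj 𝒜 k x ∈ P := by
    intro k x hx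
    rw [hPeq] at hx ⊢
    have h1 : (Ideal.ofList ys).IsHomogeneous 𝒜 := by
      unfold Ideal.ofList
      apply Ideal.homogeneous_span
      intro y hy
      exact ⟨1, hys y hy⟩
    exact h1 k hx
  let P' : Submodule R (Rg 𝒜).carrier := P
  have hP : P'.IsHomogeneous (Rg 𝒜).gr := hPhom
  set Y : GrLC.GMod.{u} 𝒜 := quotGMod (Rg 𝒜) P' hP with hY
  set π : (Rg 𝒜).carrier →ₗ[R] Y.carrier := quotMap (Rg 𝒜) P' hP with hπ
  have hSY : SRegG 𝒜 a Y 0 :=
    (sRegG_iff_of_regular_sequence 𝒜 a 0 ys (Rg 𝒜) Y π hys' hreg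
      (isGrHom_quotMap (Rg 𝒜) P' hP) (quotMap_surjective (Rg 𝒜) P' hP)
      (ker_quotMap (Rg 𝒜) P' hP)).mp hSReg
  -- the quotient is Artinian
  have hdim : ringKrullDim (R ⧸ P) ≤ 0 := by
    have h1 := supportDim_quotient_ofList_add_length_le ys R hreg
    rw [Module.supportDim_self_eq_ringKrullDim, hd] at h1
    have h2 : Module.supportDim R (R ⧸ P) = ringKrullDim (R ⧸ P) :=
      Module.supportDim_quotient_eq_ringKrullDim P
    rw [← h2]
    have h3 : Module.supportDim R (R ⧸ P) + ((ys.length : ℕ) : WithBot ℕ∞) ≤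
        0 + ((ys.length : ℕ) : WithBot ℕ∞) := by
      rw [zero_add]
      exact h1
    exact ENat.WithBot.add_le_add_natCast_right_iff.mp h3
  haveI hartR : IsArtinianRing (R ⧸ P) := by
    rw [isArtinianRing_iff_krullDimLE_zero, Ring.krullDimLE_iff]
    exact hdim
  have hart : IsArtinian R (R ⧸ P) :=
    isArtinian_of_surjective_algebraMap (S := R) (R := R ⧸ P) (M := R ⧸ P)
      Ideal.Quotient.mk_surjective
  haveI : IsArtinian R Y.carrier := hart
  haveI : Module.Finite R Y.carrier := (inferInstance : Module.Finite R (R ⧸ P))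
  have htors : LocCoh.IsPowerTorsion a.toIdeal Y.carrier :=
    Reg.isPowerTorsion_of_isArtinian 𝒜 hpos Y.gr a.toIdeal (irrel_toIdeal 𝒜)
  have hY0 := (sRegG_torsion_iff 𝒜 a Y htors 0).mp hSY
  -- the linear forms generate the irrelevant ideal
  have hle' : a.toIdeal ≤ Ideal.ofList ys := by
    rw [irrel_toIdeal, Ideal.span_le]
    intro x hx
    simp only [Set.mem_iUnion, Set.mem_Ioi, SetLike.mem_coe, exists_prop] at hx
    obtain ⟨k, hk, hxk⟩ := hx
    have h1 : π x ∈ Y.gr k := isGrHom_quotMap (Rg 𝒜) P' hP k x hxk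
    have h2 : π x = 0 := hY0 k hk _ h1
    have h3 : x ∈ P := (quotMap_eq_zero_iff (Rg 𝒜) P' hP x).mp h2
    rw [hPeq] at h3
    exact h3
  have hge : Ideal.ofList ys ≤ a.toIdeal := by
    unfold Ideal.ofList
    rw [Ideal.span_le]
    intro y hy
    exact (hys' y hy).2
  have hofl : a.toIdeal = Ideal.ofList ys := le_antisymm hle' hge
  set z : Fin ys.length → R := ys.get with hz
  have hzrange : Ideal.span (Set.range z) = Ideal.ofList ys := by
    rw [hz, Set.range_list_get]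
  have hz1 : ∀ i, z i ∈ 𝒜 1 := fun i => hys _ (List.get_mem ys i)
  have hinj : Function.Injective (MvPolynomial.aeval z :
      MvPolynomial (Fin ys.length) (GrLC.deg0 𝒜) →ₐ[GrLC.deg0 𝒜] R) := by
    rw [injective_iff_map_eq_zero]
    apply aeval_eq_zero_imp (GrLC.deg0 𝒜) ys.length R z
    · rw [hz, List.ofFn_get]
      exact hreg
    · intro c hc
      rw [hzrange, ← hofl, hhom] at hc
      have h1 := proj_zero_of_mem 𝒜 hpos hc
      have h2 : proj 𝒜 0 ((c : GrLC.deg0 𝒜) : R) = (c : R) := proj_of_mem_same 𝒜 c.2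
      apply Subtype.ext
      exact h2.symm.trans h1
  have hsurj := aeval_surjective 𝒜 hpos ys.length z hz1 (by rw [hzrange]; exact hofl)
  refine ⟨AlgEquiv.ofBijective _ ⟨hinj, hsurj⟩, ?_⟩
  intro i
  rw [AlgEquiv.ofBijective_apply, MvPolynomial.aeval_X]
  exact hz1 i

end Main

end Groth.Agent.Lib.Helper6.PolyChar
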